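import Cfsg.Agent.Lib.FusionSystem.CentralProd54.Quasisimple
import Cfsg.Agent.Lib.FusionSystem.Fitting

/-!
Central products of fusion systems: the maps, the factors as normal subsystems, sub-products.
-/

set_option autoImplicit false
set_option linter.style.haveILetI false
set_option linter.unusedSectionVars false

namespace Cfsg.Agent.Lib.FS.CentralProd54

open Cfsg Cfsg.FusionSystem Cfsg.Agent.Lib Cfsg.Agent.Lib.FS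
open Cfsg.Agent.Lib.FusionP3.Prime.Normality (exists_mul_of_mem_sup)

universe u

variable {Ω : Type u} [Group Ω]

/-- The left components in `A` of the elements of `P`. -/
def lp (A B P : Subgroup Ω) : Subgroup Ω :=
  Subgroup.closure {a : Ω | a ∈ A ∧ ∃ b ∈ B, a * b ∈ P}

theorem mem_lp {A B P : Subgroup Ω} {a b : Ω} (ha : a ∈ A) (hb : b ∈ B) (h : a * b ∈ P) : a ∈ lp A B P :=
  Subgroup.subset_closure ⟨ha, b, hb, h⟩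

theorem lp_le {A B P : Subgroup Ω} : lp A B P ≤ A := (Subgroup.closure_le _).2 fun _ h => h.1

theorem exists_of_mem_lp {A B P : Subgroup Ω} (hc : ∀ a ∈ A, ∀ b ∈ B, a * b = b * a) {a : Ω}
    (ha : a ∈ lp A B P) : a ∈ A ∧ ∃ b ∈ B, a * b ∈ P := by
  induction ha using Subgroup.closure_induction with
  | mem a h => exact h
  | one => exact ⟨one_mem _, 1, one_mem _, by simp [P.one_mem]⟩
  | mul a a' _ _ h h' =>
    obtain ⟨ha, b, hb, hab⟩ := h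
    obtain ⟨ha', b', hb', hab'⟩ := h'
    refine ⟨mul_mem ha ha', b * b', mul_mem hb hb', ?_⟩
    have := mul_mem hab hab'
    rwa [mul_assoc, ← mul_assoc b, ← hc a' ha' b hb, mul_assoc a', ← mul_assoc] at this
  | inv a _ h =>
    obtain ⟨ha, b, hb, hab⟩ := h
    refine ⟨inv_mem ha, b⁻¹, inv_mem hb, ?_⟩
    have := inv_mem hab
    rwa [mul_inv_rev, ← hc _ (inv_mem ha) _ (inv_mem hb)] at this

/-- Transport of a map by a map whose source contains its source and values. -/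
theorem transport {S : Subgroup Ω} {F : FusionSystem S} {P Q : Subgroup Ω} (hPQ : P ≤ Q) {φ : P →* Ω}
    (hφ : φ ∈ F.Hom P) (hφQ : ∀ x, φ x ∈ Q) {σ : Q →* Ω} (hσ : σ ∈ F.Hom Q) :
    ∃ χ ∈ F.Hom ((P.subgroupOf Q).map σ), ∀ (x : P) (hx : σ (Subgroup.inclusion hPQ x) ∈ (P.subgroupOf Q).map σ),
      χ ⟨σ (Subgroup.inclusion hPQ x), hx⟩ = σ ⟨φ x, hφQ x⟩ := by
  obtain ⟨τ, hτ, hτe⟩ := exists_restrict hσ hPQ
  have hr : τ.range = (P.subgroupOf Q).map σ := by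
    ext y
    constructor
    · rintro ⟨x, rfl⟩; exact ⟨Subgroup.inclusion hPQ x, x.2, (hτe x).symm⟩
    · rintro ⟨q, hq, rfl⟩; exact ⟨⟨q, hq⟩, hτe _⟩
  obtain ⟨ν, hν, hνr, hνl, -⟩ := exists_inv hτ hr
  obtain ⟨μ, hμ, hμe⟩ := exists_comp hν hφ fun y => hνr.le ⟨y, rfl⟩
  obtain ⟨χ, hχ, hχe⟩ := exists_comp hμ hσ fun y => by rw [hμe]; exact hφQ _
  refine ⟨χ, hχ, fun x hx => ?_⟩
  rw [hχe]
  refine congrArg σ (Subtype.ext ?_)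
  show μ _ = φ x
  rw [hμe]
  refine congrArg φ (Subtype.ext ?_)
  refine Eq.trans (congrArg ν (Subtype.ext ?_)) (hνl x (by rw [hτe]; exact hx))
  exact (hτe x).symm

/-- The data of a central product, symmetric in the two factors. -/
structure CP {S S₁ S₂ : Subgroup Ω} (F₁ : FusionSystem S₁) (F₂ : FusionSystem S₂) (F : FusionSystem S) : Prop where
  le₁ : S₁ ≤ S
  le₂ : S₂ ≤ S
  comm : ∀ a ∈ S₁, ∀ b ∈ S₂, a * b = b * a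
  decomp : ∀ u ∈ S, ∃ a ∈ S₁, ∃ b ∈ S₂, u = a * b
  maps : ∀ (P : Subgroup Ω) (φ : P →* Ω), φ ∈ F.Hom P →
    ∃ φ₁ ∈ F₁.Hom (lp S₁ S₂ P), ∃ φ₂ ∈ F₂.Hom (lp S₂ S₁ P),
      ∀ (a b : Ω) (ha : a ∈ lp S₁ S₂ P) (hb : b ∈ lp S₂ S₁ P) (h : a * b ∈ P),
        φ ⟨a * b, h⟩ = φ₁ ⟨a, ha⟩ * φ₂ ⟨b, hb⟩
  build : ∀ (P : Subgroup Ω) (φ : P →* Ω), P ≤ S → ∀ φ₁ ∈ F₁.Hom (lp S₁ S₂ P), ∀ φ₂ ∈ F₂.Hom (lp S₂ S₁ P),
      (∀ (a b : Ω) (ha : a ∈ lp S₁ S₂ P) (hb : b ∈ lp S₂ S₁ P) (h : a * b ∈ P),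
        φ ⟨a * b, h⟩ = φ₁ ⟨a, ha⟩ * φ₂ ⟨b, hb⟩) → φ ∈ F.Hom P
  fix₁ : ∀ (R : Subgroup Ω) (φ : R →* Ω), φ ∈ F₁.Hom R → ∀ x : R, (x : Ω) ∈ S₂ → φ x = x
  fix₂ : ∀ (R : Subgroup Ω) (φ : R →* Ω), φ ∈ F₂.Hom R → ∀ x : R, (x : Ω) ∈ S₁ → φ x = x

variable {S S₁ S₂ : Subgroup Ω} {F₁ : FusionSystem S₁} {F₂ : FusionSystem S₂} {F : FusionSystem S}

theorem CP.swap (h : CP F₁ F₂ F) : CP F₂ F₁ F where
  le₁ := h.le₂
  le₂ := h.le₁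
  comm := fun a ha b hb => (h.comm b hb a ha).symm
  decomp := fun u hu => by
    obtain ⟨a, ha, b, hb, e⟩ := h.decomp u hu
    exact ⟨b, hb, a, ha, e.trans (h.comm a ha b hb)⟩
  maps := fun P φ hφ => by
    obtain ⟨φ₁, h₁, φ₂, h₂, e⟩ := h.maps P φ hφ
    refine ⟨φ₂, h₂, φ₁, h₁, fun a b ha hb hab => ?_⟩
    have hba : b * a ∈ P := by rw [h.comm b (lp_le hb) a (lp_le ha)]; exact hab
    rw [show (⟨a * b, hab⟩ : P) = ⟨b * a, hba⟩ from Subtype.ext (h.comm b (lp_le hb) a (lp_le ha)).symm,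
      e b a hb ha hba]
    exact h.comm _ (apply_mem h₁ _) _ (apply_mem h₂ _)
  build := fun P φ hP φ₂ h₂ φ₁ h₁ e => by
    refine h.build P φ hP φ₁ h₁ φ₂ h₂ fun a b ha hb hab => ?_
    have hba : b * a ∈ P := by rw [← h.comm a (lp_le ha) b (lp_le hb)]; exact hab
    rw [show (⟨a * b, hab⟩ : P) = ⟨b * a, hba⟩ from Subtype.ext (h.comm a (lp_le ha) b (lp_le hb)),
      e b a hb ha hba]
    exact (h.comm _ (apply_mem h₁ _) _ (apply_mem h₂ _)).symm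
  fix₁ := h.fix₂
  fix₂ := h.fix₁

section

variable [Finite S] {p : ℕ} [Fact p.Prime]

theorem CP.fin₁ (h : CP F₁ F₂ F) : Finite S₁ := finite_sub (S := S) h.le₁

theorem CP.pgroup₁ (h : CP F₁ F₂ F) (hS : IsPGroup p S) : IsPGroup p S₁ := isPGroup_of_le hS h.le₁

/-- Maps fix the common part, and extend to it. -/
theorem CP.extend₁ (h : CP F₁ F₂ F) (hS : IsPGroup p S) (hs₁ : F₁.IsSaturated p) {R : Subgroup Ω} {φ : R →* Ω}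
    (hφ : φ ∈ F₁.Hom R) :
    ∃ ψ ∈ F₁.Hom (R ⊔ (S₁ ⊓ S₂)), ∀ x : R, ψ (Subgroup.inclusion le_sup_left x) = φ x := by
  haveI := h.fin₁
  have hc : F₁.IsCentral (S₁ ⊓ S₂) := (isCentral_iff (h.pgroup₁ hS) hs₁).2
    ⟨inf_le_left, fun x hx y ⟨φ, hφ, hy⟩ => hy ▸ h.fix₁ _ φ hφ ⟨x, Subgroup.mem_zpowers x⟩ hx.2⟩
  obtain ⟨ψ, hψ, hψe, -⟩ := hc.2 R φ hφ
  exact ⟨ψ, hψ, hψe⟩

/-- A pair of maps of the factors gives a map of the product. -/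
theorem CP.lift (h : CP F₁ F₂ F) (hS : IsPGroup p S) (hs₁ : F₁.IsSaturated p) (hs₂ : F₂.IsSaturated p)
    {R₁ R₂ : Subgroup Ω} {φ₁ : R₁ →* Ω} {φ₂ : R₂ →* Ω} (h₁ : φ₁ ∈ F₁.Hom R₁) (h₂ : φ₂ ∈ F₂.Hom R₂) :
    ∃ φ ∈ F.Hom (R₁ ⊔ R₂), ∀ (a b : Ω) (ha : a ∈ R₁) (hb : b ∈ R₂) (hab : a * b ∈ R₁ ⊔ R₂),
      φ ⟨a * b, hab⟩ = φ₁ ⟨a, ha⟩ * φ₂ ⟨b, hb⟩ := by
  have hR₁ : R₁ ≤ S₁ := src_le h₁
  have hR₂ : R₂ ≤ S₂ := src_le h₂
  obtain ⟨ψ₁, g₁, e₁⟩ := h.extend₁ hS hs₁ h₁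
  obtain ⟨ψ₂, g₂, e₂⟩ := h.swap.extend₁ hS hs₂ h₂
  set P := R₁ ⊔ R₂ with hP
  have hPS : P ≤ S := sup_le (hR₁.trans h.le₁) (hR₂.trans h.le₂)
  -- every decomposition of an element of `P` lies in `(R₁ ⊔ (S₁ ⊓ S₂) : Subgroup Ω) × (R₂ ⊔ (S₂ ⊓ S₁) : Subgroup Ω)`
  have hdom : ∀ a ∈ S₁, ∀ b ∈ S₂, a * b ∈ P → a ∈ (R₁ ⊔ (S₁ ⊓ S₂) : Subgroup Ω) ∧ b ∈ (R₂ ⊔ (S₂ ⊓ S₁) : Subgroup Ω) := by
    intro a ha b hb hab
    obtain ⟨r, hr, r', hr', he⟩ := exists_mul_of_mem_sup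
      (fun x hx y hy => h.comm x (hR₁ hx) y (hR₂ hy)) hab
    have hz : r⁻¹ * a = r' * b⁻¹ := by
      apply mul_left_cancel (a := r); apply mul_right_cancel (b := b)
      rw [mul_inv_cancel_left, ← mul_assoc, inv_mul_cancel_right]; exact he.symm
    have hz₁ : r⁻¹ * a ∈ S₁ ⊓ S₂ :=
      ⟨mul_mem (S₁.inv_mem (hR₁ hr)) ha, hz ▸ mul_mem (hR₂ hr') (S₂.inv_mem hb)⟩
    refine ⟨?_, ?_⟩
    · rw [show a = r * (r⁻¹ * a) from (mul_inv_cancel_left r a).symm]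
      exact mul_mem (Subgroup.mem_sup_left hr) (Subgroup.mem_sup_right hz₁)
    · rw [show b = (r⁻¹ * a)⁻¹ * r' by rw [hz, mul_inv_rev, inv_inv, inv_mul_cancel_right]]
      exact mul_mem (Subgroup.mem_sup_right ⟨S₂.inv_mem hz₁.2, S₁.inv_mem hz₁.1⟩) (Subgroup.mem_sup_left hr')
  have hexA : ∀ w : P, ∃ q : (R₁ ⊔ (S₁ ⊓ S₂) : Subgroup Ω) × (R₂ ⊔ (S₂ ⊓ S₁) : Subgroup Ω), (q.1 : Ω) * q.2 = w := fun w => by
    obtain ⟨a, ha, b, hb, e⟩ := h.decomp w (hPS w.2)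
    obtain ⟨hqa, hqb⟩ := hdom a ha b hb (e ▸ w.2)
    exact ⟨(⟨a, hqa⟩, ⟨b, hqb⟩), e.symm⟩
  choose dec hdec using hexA
  have hm₁ : (R₁ ⊔ (S₁ ⊓ S₂) : Subgroup Ω) ≤ S₁ := sup_le hR₁ inf_le_left
  have hm₂ : (R₂ ⊔ (S₂ ⊓ S₁) : Subgroup Ω) ≤ S₂ := sup_le hR₂ inf_le_left
  have wd : ∀ (a a' : (R₁ ⊔ (S₁ ⊓ S₂) : Subgroup Ω)) (b b' : (R₂ ⊔ (S₂ ⊓ S₁) : Subgroup Ω)), (a : Ω) * b = a' * b' → ψ₁ a * ψ₂ b = ψ₁ a' * ψ₂ b' := by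
    intro a a' b b' e
    have hz : (a : Ω)⁻¹ * a' = (b : Ω) * (b' : Ω)⁻¹ := by
      apply mul_left_cancel (a := (a : Ω)); apply mul_right_cancel (b := (b' : Ω))
      rw [mul_inv_cancel_left, ← mul_assoc, inv_mul_cancel_right]; exact e.symm
    have f₁ := h.fix₁ _ ψ₁ g₁ (a⁻¹ * a') (by
      show (a : Ω)⁻¹ * a' ∈ S₂
      rw [hz]; exact mul_mem (hm₂ b.2) (inv_mem (hm₂ b'.2)))
    have f₂ := h.fix₂ _ ψ₂ g₂ (b * b'⁻¹) (by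
      show (b : Ω) * (b' : Ω)⁻¹ ∈ S₁
      rw [← hz]; exact mul_mem (inv_mem (hm₁ a.2)) (hm₁ a'.2))
    rw [map_mul, map_inv] at f₁ f₂
    simp only [Subgroup.coe_mul, Subgroup.coe_inv] at f₁ f₂
    have : (ψ₁ a)⁻¹ * ψ₁ a' = ψ₂ b * (ψ₂ b')⁻¹ := f₁.trans (hz.trans f₂.symm)
    calc ψ₁ a * ψ₂ b = ψ₁ a * (ψ₂ b * (ψ₂ b')⁻¹) * ψ₂ b' := by group
      _ = ψ₁ a' * ψ₂ b' := by rw [← this, mul_inv_cancel_left]
  let φ : P →* Ω := MonoidHom.mk' (fun w => ψ₁ (dec w).1 * ψ₂ (dec w).2) fun v w => by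
    rw [← wd ((dec v).1 * (dec w).1) _ ((dec v).2 * (dec w).2) _ (by
      rw [hdec, Subgroup.coe_mul P, ← hdec v, ← hdec w, Subgroup.coe_mul, Subgroup.coe_mul]
      simp only [mul_assoc]
      rw [← mul_assoc ((dec v).2 : Ω), ← h.comm _ (hm₁ (dec w).1.2) _ (hm₂ (dec v).2.2), mul_assoc]),
      map_mul, map_mul]
    simp only [mul_assoc]
    rw [← mul_assoc (ψ₁ (dec w).1), h.comm _ (apply_mem g₁ _) _ (apply_mem g₂ _), mul_assoc]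
  have hφv : ∀ (a b : Ω) (ha : a ∈ (R₁ ⊔ (S₁ ⊓ S₂) : Subgroup Ω)) (hb : b ∈ (R₂ ⊔ (S₂ ⊓ S₁) : Subgroup Ω)) (hab : a * b ∈ P),
      φ ⟨a * b, hab⟩ = ψ₁ ⟨a, ha⟩ * ψ₂ ⟨b, hb⟩ := fun a b ha hb hab => wd _ ⟨a, ha⟩ _ ⟨b, hb⟩ (hdec _)
  have hl₁ : lp S₁ S₂ P ≤ (R₁ ⊔ (S₁ ⊓ S₂) : Subgroup Ω) := (Subgroup.closure_le _).2 fun a ⟨ha, b, hb, hab⟩ => (hdom a ha b hb hab).1
  have hl₂ : lp S₂ S₁ P ≤ (R₂ ⊔ (S₂ ⊓ S₁) : Subgroup Ω) := (Subgroup.closure_le _).2 fun b ⟨hb, a, ha, hba⟩ =>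
    (hdom a ha b hb (by rw [h.comm a ha b hb]; exact hba)).2
  obtain ⟨χ₁, k₁, c₁⟩ := exists_restrict g₁ hl₁
  obtain ⟨χ₂, k₂, c₂⟩ := exists_restrict g₂ hl₂
  refine ⟨φ, h.build P φ hPS χ₁ k₁ χ₂ k₂ fun a b ha hb hab => ?_, fun a b ha hb hab => ?_⟩
  · rw [hφv a b (hl₁ ha) (hl₂ hb) hab, c₁, c₂]
  · rw [hφv a b (Subgroup.mem_sup_left ha) (Subgroup.mem_sup_left hb) hab, ← e₁ ⟨a, ha⟩, ← e₂ ⟨b, hb⟩]
    rfl

/-- The first factor consists of maps of the product. -/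
theorem CP.sub₁ (h : CP F₁ F₂ F) (hS : IsPGroup p S) (hs₁ : F₁.IsSaturated p) (hs₂ : F₂.IsSaturated p) :
    F₁.IsSubsystemOf F := by
  intro R φ hφ
  obtain ⟨ψ, hψ, e⟩ := h.lift hS hs₁ hs₂ hφ (subtype_mem F₂ (bot_le : (⊥ : Subgroup Ω) ≤ S₂))
  obtain ⟨χ, hχ, hχe⟩ := exists_restrict hψ (le_sup_left : R ≤ R ⊔ ⊥)
  refine hom_congr hχ fun x => ?_
  rw [hχe]
  have h1 : (x : Ω) * 1 ∈ R ⊔ ⊥ := by rw [mul_one]; exact Subgroup.mem_sup_left x.2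
  refine Eq.symm (((congrArg ψ (Subtype.ext (mul_one _).symm)).trans (e x 1 x.2 (one_mem _) h1)).trans ?_)
  show φ x * 1 = φ x
  exact mul_one _

/-- Maps of the product with source in the first factor are maps of that factor. -/
theorem CP.res₁ (h : CP F₁ F₂ F) {P : Subgroup Ω} {φ : P →* Ω} (hφ : φ ∈ F.Hom P) (hP : P ≤ S₁) :
    φ ∈ F₁.Hom P := by
  obtain ⟨φ₁, h₁, φ₂, h₂, e⟩ := h.maps P φ hφ
  have hle : P ≤ lp S₁ S₂ P := fun x hx => mem_lp (hP hx) (one_mem _) (by rw [mul_one]; exact hx)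
  obtain ⟨χ, hχ, hχe⟩ := exists_restrict h₁ hle
  refine hom_congr hχ fun x => ?_
  have h1 : (x : Ω) * 1 ∈ P := by rw [mul_one]; exact x.2
  rw [hχe]
  have := e x 1 (hle x.2) (one_mem _) h1
  have h1' : φ₂ ⟨(1 : Ω), one_mem _⟩ = 1 := map_one φ₂
  simp only [h1', mul_one] at this
  exact this

theorem CP.closed₁ (h : CP F₁ F₂ F) : F.StronglyClosed S₁ :=
  ⟨h.le₁, fun _ hR _ hφ x => apply_mem (h.res₁ hφ hR) x⟩

/-- A map of the product splits on each element. -/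
theorem CP.split (h : CP F₁ F₂ F) {P : Subgroup Ω} {φ : P →* Ω} (hφ : φ ∈ F.Hom P) {x : P}
    (hx₁ : (x : Ω) ∈ S₁) (hx₂ : (x : Ω) ∈ S₂) : φ x = x := by
  obtain ⟨τ, hτ, hτe⟩ := exists_restrict hφ (Subgroup.zpowers_le.2 x.2)
  have := h.fix₁ _ τ (h.res₁ hτ (Subgroup.zpowers_le.2 hx₁)) ⟨x, Subgroup.mem_zpowers _⟩ hx₂
  exact (hτe ⟨x, Subgroup.mem_zpowers _⟩).symm.trans this

/-- The first factor is normal in the product. -/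
theorem CP.normal₁ (h : CP F₁ F₂ F) (hS : IsPGroup p S) (hF : F.IsSaturated p) (hs₁ : F₁.IsSaturated p)
    (hs₂ : F₂.IsSaturated p) : F₁.IsNormalIn F p := by
  have hsub := h.sub₁ hS hs₁ hs₂
  refine ⟨⟨hs₁, hF, (S5119.result p hS F hF F₁ hsub h.closed₁).2 fun P Q hPQ hQ φ hφ hφQ ψ hψ => ?_⟩, fun α hα => ?_⟩
  · exact transport hPQ hφ hφQ (h.res₁ hψ hQ)
  obtain ⟨a, ha, -, hae⟩ := exists_hom_of_aut le_rfl hα
  obtain ⟨ψ, hψ, e⟩ := h.lift hS hs₁ hs₂ ha (subtype_mem F₂ (le_rfl : S₂ ≤ S₂))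
  have hle : S₁ ⊔ centralizerIn S S₁ ≤ S₁ ⊔ S₂ := fun w hw => by
    obtain ⟨u, hu, v, hv, rfl⟩ := h.decomp w (sup_le h.le₁ (centralizerIn_le S₁) hw)
    exact mul_mem (Subgroup.mem_sup_left hu) (Subgroup.mem_sup_right hv)
  obtain ⟨g, hg, hge⟩ := exists_restrict hψ hle
  have hge' : ∀ (u v : Ω) (hu : u ∈ S₁) (hv : v ∈ S₂) (huv : u * v ∈ S₁ ⊔ centralizerIn S S₁),
      g ⟨u * v, huv⟩ = ((α ⟨u, hu⟩ : S₁) : Ω) * v := fun u v hu hv huv => by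
    rw [hge]
    refine (e u v hu hv _).trans ?_
    rw [hae]; rfl
  have hS₂c : S₂ ≤ centralizerIn S S₁ := fun v hv => ⟨h.le₂ hv, fun u hu => h.comm u hu v hv⟩
  have hmaps : ∀ x, g x ∈ S₁ ⊔ centralizerIn S S₁ := fun x => by
    obtain ⟨u, hu, v, hv, he⟩ := h.decomp x (sup_le h.le₁ (centralizerIn_le S₁) x.2)
    rw [show x = ⟨u * v, he ▸ x.2⟩ from Subtype.ext he, hge' u v hu hv]
    exact mul_mem (Subgroup.mem_sup_left (α _).2) (Subgroup.mem_sup_right (hS₂c hv))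
  haveI := h.fin₁
  obtain ⟨β, hβ, hβe⟩ := Inter.exists_aut hg hmaps
  refine ⟨β, hβ, fun x => ?_, fun c hc => ?_⟩
  · rw [hβe]
    have h1 : (x : Ω) * 1 ∈ S₁ ⊔ centralizerIn S S₁ := by rw [mul_one]; exact Subgroup.mem_sup_left x.2
    refine (congrArg g (Subtype.ext (mul_one _).symm)).trans ((hge' x 1 x.2 (one_mem _) h1).trans (mul_one _))
  rw [hβe]
  obtain ⟨c, hcm⟩ := c
  obtain ⟨hcS, hcc⟩ := hc
  obtain ⟨u, hu, v, hv, rfl⟩ := h.decomp c hcS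
  rw [hge' u v hu hv hcm]
  have huc : ∀ y ∈ S₁, y * u = u * y := fun y hy => by
    have h1 : y * (u * v) = u * v * y := hcc y hy
    rw [mul_assoc u, ← h.comm y hy v hv, ← mul_assoc, ← mul_assoc] at h1
    exact mul_right_cancel h1
  have hαc : ∀ y ∈ S₁, y * (α ⟨u, hu⟩ : S₁) = (α ⟨u, hu⟩ : S₁) * y := fun y hy => by
    obtain ⟨y', hy'⟩ := α.surjective ⟨y, hy⟩
    have h1 : y' * ⟨u, hu⟩ = ⟨u, hu⟩ * y' := Subtype.ext (huc y' y'.2)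
    have h2 := congrArg Subtype.val (congrArg α h1)
    rw [map_mul, map_mul, hy'] at h2
    exact h2
  show (u * v)⁻¹ * (((α ⟨u, hu⟩ : S₁) : Ω) * v) ∈ _
  have hm : u⁻¹ * (α ⟨u, hu⟩ : S₁) ∈ S₁ := mul_mem (inv_mem hu) (α _).2
  rw [mul_inv_rev, mul_assoc, ← mul_assoc u⁻¹, h.comm _ hm v hv, inv_mul_cancel_left]
  refine ⟨hm, Subgroup.mul_mem _ (Subgroup.inv_mem _ ?_) ?_⟩
  · exact huc
  · exact hαc

end

/-- A central product gives the data. -/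
theorem cp_of_isCentralProductOf [Finite S] {p : ℕ} [Fact p.Prime] (hS : IsPGroup p S)
    (hs₁ : F₁.IsSaturated p) (hs₂ : F₂.IsSaturated p) (hc : IsCentralProductOf F₁ F₂ F) : CP F₁ F₂ F := by
  obtain ⟨h1, h2, hcomm, hdec⟩ := Fitting.centralProduct_base hc
  haveI := finite_sub (S := S) h1
  haveI := finite_sub (S := S) h2
  obtain ⟨D₀, hD₀, Z, θ, hZ, -, -, hfst, hsnd, hZle, hker, hr, hhom⟩ := hc
  haveI : Finite ↥(S₁.prod S₂) := finite_prod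
  have hP0 := isPGroup_prod (isPGroup_of_le hS h1) (isPGroup_of_le hS h2)
  have hsD := product_isSaturated (isPGroup_of_le hS h1) (isPGroup_of_le hS h2) hs₁ hs₂ hD₀
  have hθ : ∀ (a b : Ω) (hab : (a, b) ∈ S₁.prod S₂), θ ⟨(a, b), hab⟩ = a * b := fun a b hab => by
    refine Eq.trans ?_ (congrArg₂ (· * ·) (hfst a ⟨hab.1, one_mem _⟩) (hsnd b ⟨one_mem _, hab.2⟩))
    refine Eq.trans ?_ (map_mul θ _ _)
    exact congrArg θ (Subtype.ext (by simp))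
  have hzfix : ∀ (z : Ω), z ∈ S₁ → z ∈ S₂ → ∀ {A B : Subgroup Ω} (f : A →* Ω) (g : B →* Ω),
      f ∈ F₁.Hom A → g ∈ F₂.Hom B → ∀ (hA : z ∈ A) (hB : z ∈ B), f ⟨z, hA⟩ = z ∧ g ⟨z, hB⟩ = z := by
    intro z hz₁ hz₂ A B f g hf hg hA hB
    have hzp : ((z, z⁻¹) : Ω × Ω) ∈ S₁.prod S₂ := ⟨hz₁, S₂.inv_mem hz₂⟩
    have hzZ : ((z, z⁻¹) : Ω × Ω) ∈ Z := (hker ⟨_, hzp⟩).1 ((hθ _ _ hzp).trans (mul_inv_cancel z))
    set R : Subgroup (Ω × Ω) := Subgroup.zpowers (z, z⁻¹) with hR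
    have hR1 : proj₁ R ≤ A := by
      rw [hR, proj₁, MonoidHom.map_zpowers]; exact Subgroup.zpowers_le.2 hA
    have hR2 : proj₂ R ≤ B := by
      rw [hR, proj₂, MonoidHom.map_zpowers]; exact Subgroup.zpowers_le.2 (inv_mem hB)
    obtain ⟨f', hf', hf'e⟩ := exists_restrict hf hR1
    obtain ⟨g', hg', hg'e⟩ := exists_restrict hg hR2
    have hm : pairMap f' g' ∈ D₀.Hom R :=
      (product_mem_iff hD₀).2 ⟨Subgroup.zpowers_le.2 hzp, f', hf', g', hg', rfl⟩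
    have hc := ((isCentral_iff hP0 hsD).1 (FusionAlperin.Join.isCentral_center D₀)).2 _ (hZ hzZ) _
      ⟨_, hm, rfl⟩
    have e1 := congrArg Prod.fst hc
    have e2 := congrArg Prod.snd hc
    simp only [pairMap_apply, hf'e, hg'e] at e1 e2
    refine ⟨e1, ?_⟩
    rw [show (⟨z, hB⟩ : B) = (⟨z⁻¹, inv_mem hB⟩ : B)⁻¹ from Subtype.ext (inv_inv z).symm, map_inv]
    exact inv_eq_iff_eq_inv.2 e2
  refine ⟨h1, h2, hcomm, hdec, fun P φ hφ => ?_, fun P φ hP φ₁ g₁ φ₂ g₂ e => ?_, fun R φ hφ x hx => ?_,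
    fun R φ hφ x hx => ?_⟩
  · obtain ⟨hP, ψ, hψ, hind⟩ := (hhom P φ).1 hφ
    obtain ⟨-, ψ₁, k₁, ψ₂, k₂, rfl⟩ := (product_mem_iff hD₀).1 hψ
    have l₁ : lp S₁ S₂ P ≤ proj₁ (preimageAlong θ P) := by
      intro a ha
      obtain ⟨haS, b, hb, hab⟩ := exists_of_mem_lp hcomm ha
      exact ⟨(a, b), mem_preimageAlong.2 ⟨⟨haS, hb⟩, (hθ a b ⟨haS, hb⟩).symm ▸ hab⟩, rfl⟩
    have l₂ : lp S₂ S₁ P ≤ proj₂ (preimageAlong θ P) := by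
      intro b hb
      obtain ⟨hbS, a, ha, hba⟩ := exists_of_mem_lp (fun x hx y hy => (hcomm y hy x hx).symm) hb
      exact ⟨(a, b), mem_preimageAlong.2 ⟨⟨ha, hbS⟩, (hθ a b ⟨ha, hbS⟩).symm ▸ (hcomm a ha b hbS).symm ▸ hba⟩, rfl⟩
    obtain ⟨χ₁, g₁, c₁⟩ := exists_restrict k₁ l₁
    obtain ⟨χ₂, g₂, c₂⟩ := exists_restrict k₂ l₂
    refine ⟨χ₁, g₁, χ₂, g₂, fun a b ha hb hab => ?_⟩
    have hm : ((a, b) : Ω × Ω) ∈ S₁.prod S₂ := ⟨lp_le ha, lp_le hb⟩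
    have hp : ((a, b) : Ω × Ω) ∈ preimageAlong θ P :=
      mem_preimageAlong.2 ⟨hm, by rw [hθ]; exact hab⟩
    have := inducedAlong_apply hind ⟨_, hp⟩ hm (by rw [hθ]; exact hab) (apply_mem hψ _)
    rw [c₁, c₂]
    refine (congrArg φ (Subtype.ext (hθ a b hm).symm)).trans (this.trans ?_)
    exact hθ _ _ _
  · have hmem : ∀ w ∈ preimageAlong θ P, w.1 ∈ lp S₁ S₂ P ∧ w.2 ∈ lp S₂ S₁ P := by
      rintro ⟨a, b⟩ hw
      obtain ⟨⟨ha, hb⟩, hab⟩ := mem_preimageAlong.1 hw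
      have hab : a * b ∈ P := hθ a b ⟨ha, hb⟩ ▸ hab
      exact ⟨mem_lp ha hb hab, mem_lp hb ha (by rw [← hcomm a ha b hb]; exact hab)⟩
    have m₁ : proj₁ (preimageAlong θ P) ≤ lp S₁ S₂ P := by rintro _ ⟨w, hw, rfl⟩; exact (hmem w hw).1
    have m₂ : proj₂ (preimageAlong θ P) ≤ lp S₂ S₁ P := by rintro _ ⟨w, hw, rfl⟩; exact (hmem w hw).2
    obtain ⟨χ₁, k₁, c₁⟩ := exists_restrict g₁ m₁
    obtain ⟨χ₂, k₂, c₂⟩ := exists_restrict g₂ m₂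
    have hm : pairMap χ₁ χ₂ ∈ D₀.Hom (preimageAlong θ P) :=
      (product_mem_iff hD₀).2 ⟨preimageAlong_le θ P, χ₁, k₁, χ₂, k₂, rfl⟩
    refine (hhom P φ).2 ⟨hP, _, hm, inducedAlong_preimage hm fun s hs => ?_⟩
    obtain ⟨⟨a, b⟩, hab⟩ := s
    have hs' : a * b ∈ P := by rw [← hθ a b hab]; exact hs
    refine (congrArg φ (Subtype.ext (hθ a b hab))).trans ((e a b (hmem _ (mem_preimageAlong.2 ⟨hab, hs⟩)).1
      (hmem _ (mem_preimageAlong.2 ⟨hab, hs⟩)).2 hs').trans ?_)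
    refine Eq.symm ((hθ _ _ _).trans ?_)
    exact congrArg₂ (· * ·) (c₁ _) (c₂ _)
  · exact (hzfix x (src_le hφ x.2) hx φ _ hφ (subtype_mem F₂ le_rfl) x.2 hx).1
  · exact (hzfix x hx (src_le hφ x.2) _ φ (subtype_mem F₁ le_rfl) hφ hx x.2).2

/-- The central product of subsystems of the two factors. -/
theorem CP.exists_sub [Finite S] {p : ℕ} [Fact p.Prime] (h : CP F₁ F₂ F) (hS : IsPGroup p S)
    {U₁ U₂ : Subgroup Ω} {E₁ : FusionSystem U₁} {E₂ : FusionSystem U₂} (he₁ : E₁.IsSubsystemOf F₁)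
    (he₂ : E₂.IsSubsystemOf F₂) (hs₁ : E₁.IsSaturated p) (hs₂ : E₂.IsSaturated p) :
    ∃ X : FusionSystem (U₁ ⊔ U₂), CP E₁ E₂ X ∧ X.IsSaturated p := by
  have hU₁ : U₁ ≤ S₁ := src_le (he₁ _ (subtype_mem E₁ le_rfl))
  have hU₂ : U₂ ≤ S₂ := src_le (he₂ _ (subtype_mem E₂ le_rfl))
  haveI := finite_sub (S := S) (hU₁.trans h.le₁)
  haveI := finite_sub (S := S) (hU₂.trans h.le₂)
  haveI : Finite ↥(U₁.prod U₂) := finite_prod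
  have hp₁ := isPGroup_of_le hS (hU₁.trans h.le₁)
  have hp₂ := isPGroup_of_le hS (hU₂.trans h.le₂)
  have hP0 := isPGroup_prod hp₁ hp₂
  have hcm : ∀ a ∈ U₁, ∀ b ∈ U₂, a * b = b * a := fun a ha b hb => h.comm a (hU₁ ha) b (hU₂ hb)
  let θ : ↥(U₁.prod U₂) →* Ω := MonoidHom.mk' (fun w => w.1.1 * w.1.2) fun v w => by
    show v.1.1 * w.1.1 * (v.1.2 * w.1.2) = _
    simp only [mul_assoc]
    rw [← mul_assoc w.1.1, hcm _ w.2.1 _ v.2.2, mul_assoc]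
  have hr : θ.range = U₁ ⊔ U₂ := by
    refine le_antisymm ?_ (sup_le ?_ ?_)
    · rintro _ ⟨w, rfl⟩
      exact mul_mem (Subgroup.mem_sup_left w.2.1) (Subgroup.mem_sup_right w.2.2)
    · exact fun a ha => ⟨⟨(a, 1), ha, one_mem _⟩, mul_one a⟩
    · exact fun b hb => ⟨⟨(1, b), one_mem _, hb⟩, one_mul b⟩
  obtain ⟨D₀, hD₀⟩ := exists_productSystem E₁ E₂
  have hsD := product_isSaturated hp₁ hp₂ hs₁ hs₂ hD₀
  set Z := θ.ker.map (U₁.prod U₂).subtype with hZdef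
  have hker : ∀ s, θ s = 1 ↔ (s : Ω × Ω) ∈ Z := fun s => by
    rw [hZdef]
    exact ⟨fun hs => ⟨s, hs, rfl⟩, fun ⟨t, ht, he⟩ => (Subtype.ext he : t = s) ▸ ht⟩
  have hZc : D₀.IsCentral Z := by
    refine (isCentral_iff hP0 hsD).2 ⟨Subgroup.map_subtype_le _, fun x hx y ⟨φ, hφ, hy⟩ => ?_⟩
    obtain ⟨⟨⟨a, b⟩, ha, hb⟩, hk, rfl⟩ := hx
    obtain ⟨-, f, hf, g, hg, rfl⟩ := (product_mem_iff hD₀).1 hφ
    have hab : a * b = 1 := hk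
    have hb' : b = a⁻¹ := eq_inv_of_mul_eq_one_right hab
    have ha2 : a ∈ S₂ := by
      have := inv_mem (hU₂ hb)
      rwa [hb', inv_inv] at this
    have hb1 : b ∈ S₁ := by rw [hb']; exact inv_mem (hU₁ ha)
    rw [← hy, pairMap_apply, h.fix₁ _ f (he₁ _ hf) _ ha2, h.fix₂ _ g (he₂ _ hg) _ hb1]
  have hsc : D₀.StronglyClosed Z := ⟨hZc.1, fun R hR φ hφ x => by
    obtain ⟨τ, hτ, hτe⟩ := exists_restrict hφ (Subgroup.zpowers_le.2 x.2)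
    have := ((isCentral_iff hP0 hsD).1 hZc).2 _ (hR x.2) _ ⟨τ, hτ, rfl⟩
    exact ((hτe ⟨x, Subgroup.mem_zpowers _⟩).symm.trans this).symm ▸ hR x.2⟩
  obtain ⟨X, hX⟩ := exists_factorSystem hsc θ hker hr
  have hcp : IsCentralProductOf E₁ E₂ X := by
    refine ⟨D₀, hD₀, Z, θ, le_sSup hZc, ?_, ?_, fun x _ => mul_one x, fun y _ => one_mul y, hX⟩
    · refine eq_bot_iff.2 ?_
      rintro _ ⟨⟨⟨⟨a, b⟩, hw⟩, hk, rfl⟩, -, hb⟩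
      have hb' : b = 1 := Subgroup.mem_bot.1 hb
      have hk' : a * b = 1 := hk
      subst hb'
      rw [mul_one] at hk'
      exact Subgroup.mem_bot.2 (Prod.ext hk' rfl)
    · refine eq_bot_iff.2 ?_
      rintro _ ⟨⟨⟨⟨a, b⟩, hw⟩, hk, rfl⟩, ha, -⟩
      have ha' : a = 1 := Subgroup.mem_bot.1 ha
      have hk' : a * b = 1 := hk
      subst ha'
      rw [one_mul] at hk'
      exact Subgroup.mem_bot.2 (Prod.ext rfl hk')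
  haveI := finite_sub (S := S) (sup_le (hU₁.trans h.le₁) (hU₂.trans h.le₂))
  exact ⟨X, cp_of_isCentralProductOf (isPGroup_of_le hS (sup_le (hU₁.trans h.le₁) (hU₂.trans h.le₂))) hs₁ hs₂ hcp,
    Fitting.centralProduct_isSaturated hp₁ hp₂ hs₁ hs₂ hcp⟩

end Cfsg.Agent.Lib.FS.CentralProd54
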