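import Cfsg.Agent.Lib.FusionSystem.CentralProd54.Basic

/-!
Components of a central product of two saturated fusion systems.
-/

set_option autoImplicit false
set_option linter.style.haveILetI false
set_option linter.unusedSectionVars false

namespace Cfsg.Agent.Lib.FS.CentralProd54

open Cfsg Cfsg.FusionSystem Cfsg.Agent.Lib Cfsg.Agent.Lib.FS

universe u

variable {Ω : Type u} [Group Ω] {S S₁ S₂ : Subgroup Ω} [Finite S] {p : ℕ} [Fact p.Prime]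
  {F₁ : FusionSystem S₁} {F₂ : FusionSystem S₂} {F : FusionSystem S}

/-- The set of maps of a system. -/
def homs (F : FusionSystem S) : Set (Σ P : Subgroup Ω, (P →* Ω)) := {x | x.2 ∈ F.Hom x.1}

theorem homs_finite (F : FusionSystem S) : (homs F).Finite := by
  refine Set.Finite.of_finite_image (f := fun x : (Σ P : Subgroup Ω, (P →* Ω)) =>
    {st : S × S | ∃ h : (st.1 : Ω) ∈ x.1, x.2 ⟨st.1, h⟩ = st.2}) (Set.toFinite _) ?_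
  rintro ⟨P, φ⟩ hx ⟨Q, ψ⟩ hy he
  have key : ∀ {P Q : Subgroup Ω} {φ : P →* Ω} {ψ : Q →* Ω}, φ ∈ F.Hom P →
      {st : S × S | ∃ h : (st.1 : Ω) ∈ P, φ ⟨st.1, h⟩ = st.2} =
        {st : S × S | ∃ h : (st.1 : Ω) ∈ Q, ψ ⟨st.1, h⟩ = st.2} →
      ∀ x (h : x ∈ P), ∃ h' : x ∈ Q, ψ ⟨x, h'⟩ = φ ⟨x, h⟩ := by
    intro P Q φ ψ hφ he x h
    exact ((Set.ext_iff.1 he) (⟨x, src_le hφ h⟩, ⟨φ ⟨x, h⟩, apply_mem hφ _⟩)).1 ⟨h, rfl⟩
  have hPQ : P = Q := le_antisymm (fun x h => (key hx he x h).1) fun x h => (key hy he.symm x h).1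
  subst hPQ
  have hφψ : φ = ψ := MonoidHom.ext fun x => ((key hx he x x.2).2).symm
  rw [hφψ]

/-- A map of the product fixes the common part. -/
theorem CP.extend_id (h : CP F₁ F₂ F) (hS : IsPGroup p S) (hs₁ : F₁.IsSaturated p) (hs₂ : F₂.IsSaturated p)
    {U : Subgroup Ω} (hU : F.StronglyClosed U) {R : Subgroup Ω} {φ : R →* Ω} (hφ : φ ∈ F₁.Hom R) {a b : Ω}
    (ha : a ∈ R) (hb : b ∈ S₂) (hab : a * b ∈ U) : a⁻¹ * φ ⟨a, ha⟩ ∈ U := by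
  obtain ⟨g, hg, e⟩ := h.lift hS hs₁ hs₂ hφ (subtype_mem F₂ (Subgroup.zpowers_le.2 hb))
  have hm : a * b ∈ R ⊔ Subgroup.zpowers b :=
    mul_mem (Subgroup.mem_sup_left ha) (Subgroup.mem_sup_right (Subgroup.mem_zpowers b))
  have h1 := stronglyClosed_apply_mem hU hg (x := ⟨a * b, hm⟩) hab
  rw [e a b ha (Subgroup.mem_zpowers b) hm] at h1
  have h2 : (a * b)⁻¹ * (φ ⟨a, ha⟩ * b) ∈ U := mul_mem (inv_mem hab) h1
  have h3 : a⁻¹ * φ ⟨a, ha⟩ ∈ S₁ := mul_mem (inv_mem (src_le hφ ha)) (apply_mem hφ _)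
  rwa [mul_inv_rev, mul_assoc, ← mul_assoc a⁻¹, h.comm _ h3 _ hb, inv_mul_cancel_left] at h2

/-- The hyperfocal subgroup of a normal subsystem splits. -/
theorem CP.hyperfocal_le (h : CP F₁ F₂ F) (hS : IsPGroup p S) (hs₁ : F₁.IsSaturated p) (hs₂ : F₂.IsSaturated p)
    {U : Subgroup Ω} {D : FusionSystem U} (hD : D.IsSubsystemOf F) (hU : F.StronglyClosed U) :
    D.hyperfocalSubgroup p ≤ (U ⊓ S₁) ⊔ (U ⊓ S₂) := by
  refine (Subgroup.closure_le _).2 ?_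
  rintro _ ⟨P, α, ⟨x, hx⟩, hP, -, rfl⟩
  obtain ⟨φ, hφ, -, hφe⟩ := exists_hom_of_aut hP α.2
  obtain ⟨φ₁, g₁, φ₂, g₂, e⟩ := h.maps P φ (hD P hφ)
  obtain ⟨a, ha, b, hb, rfl⟩ := h.decomp x (hU.1 (hP hx))
  have ha' : a ∈ lp S₁ S₂ P := mem_lp ha hb hx
  have hb' : b ∈ lp S₂ S₁ P := mem_lp hb ha (by rw [← h.comm a ha b hb]; exact hx)
  have k₁ := h.extend_id hS hs₁ hs₂ hU g₁ ha' hb (hP hx)
  have k₂ := h.swap.extend_id hS hs₂ hs₁ hU g₂ hb' ha (by rw [← h.comm a ha b hb]; exact hP hx)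
  have l₁ : a⁻¹ * φ₁ ⟨a, ha'⟩ ∈ S₁ := mul_mem (inv_mem ha) (apply_mem g₁ _)
  show (a * b)⁻¹ * ((α : MulAut P) ⟨a * b, hx⟩ : P) ∈ _
  rw [← hφe, e a b ha' hb' hx,
    show (a * b)⁻¹ * (φ₁ ⟨a, ha'⟩ * φ₂ ⟨b, hb'⟩) = b⁻¹ * (a⁻¹ * φ₁ ⟨a, ha'⟩) * φ₂ ⟨b, hb'⟩ by group,
    ← h.comm _ l₁ _ (S₂.inv_mem hb), mul_assoc]
  exact mul_mem (Subgroup.mem_sup_left ⟨k₁, l₁⟩)
    (Subgroup.mem_sup_right ⟨k₂, mul_mem (S₂.inv_mem hb) (apply_mem g₂ _)⟩)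

/-- Inside a normal subsystem on the whole base that contains the first factor, the automorphisms of `S`
moving only the first factor. -/
theorem CP.top_mem (h : CP F₁ F₂ F) (hS : IsPGroup p S) (hF : F.IsSaturated p) (hs₁ : F₁.IsSaturated p)
    (hs₂ : F₂.IsSaturated p) {D : FusionSystem S} (hDF : D.IsSubsystemOf F) {V : Subgroup Ω} {E : FusionSystem V}
    (hE : E.IsNormalIn D p) (hV : V = S₁) (hF₁ : ∀ (P : Subgroup Ω) (φ : P →* Ω), φ ∈ F₁.Hom P → φ ∈ E.Hom P)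
    {R : Subgroup Ω} (hR : R = S) {g : R →* Ω} (hg : g ∈ F.Hom R) (hgid : ∀ x : R, (x : Ω) ∈ S₂ → g x = x) :
    g ∈ D.Hom R := by
  subst hR
  subst hV
  haveI := h.fin₁
  obtain ⟨α₀, hα₀, hα₀e⟩ := exists_restrict hg (h.le₁)
  have hα₀₁ := h.res₁ hα₀ le_rfl
  obtain ⟨α, hα, hαe⟩ := Inter.exists_aut (hF₁ _ _ hα₀₁) (apply_mem (hF₁ _ _ hα₀₁))
  obtain ⟨β, hβ, hβ1, hβ2⟩ := hE.2 α hα
  obtain ⟨b, hb, -, hbe⟩ := exists_hom_of_aut (sup_le h.le₁ (centralizerIn_le _)) hβ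
  have hle : R ≤ V ⊔ centralizerIn R V := fun w hw => by
    obtain ⟨u, hu, v, hv, rfl⟩ := h.decomp w hw
    exact mul_mem (Subgroup.mem_sup_left hu)
      (Subgroup.mem_sup_right ⟨h.le₂ hv, fun y hy => h.comm y hy v hv⟩)
  obtain ⟨d, hd, hde⟩ := exists_restrict hb hle
  have hdV : ∀ x : R, (x : Ω) ∈ V → d x = g x := fun x hx => by
    rw [hde, hbe]
    exact (hβ1 ⟨x, hx⟩).trans ((hαe _).trans (hα₀e _))
  have hdS : ∀ x : R, (x : Ω) ∈ S₂ → (g x)⁻¹ * d x ∈ V ⊓ S₂ := fun x hx => by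
    rw [hgid x hx]
    refine ⟨?_, mul_mem (S₂.inv_mem hx) (stronglyClosed_apply_mem h.swap.closed₁ (hDF _ hd) (x := x) hx)⟩
    rw [hde, hbe]
    exact (hβ2 ⟨x, hle x.2⟩ ⟨h.le₂ hx, fun y hy => h.comm y hy x hx⟩).1
  have hoff : ∀ x : R, (g x)⁻¹ * d x ∈ V ⊓ S₂ := fun x => by
    obtain ⟨u, hu, v, hv, he⟩ := h.decomp x x.2
    have hx : x = ⟨u, h.le₁ hu⟩ * ⟨v, h.le₂ hv⟩ := Subtype.ext he
    rw [hx, map_mul, map_mul, hdV ⟨u, h.le₁ hu⟩ hu, mul_inv_rev, mul_assoc, inv_mul_cancel_left]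
    exact hdS _ hv
  obtain ⟨bd, hbd, hbde⟩ := Inter.exists_aut hd (apply_mem hd)
  obtain ⟨ag, hag, hage⟩ := Inter.exists_aut hg (apply_mem hg)
  have hbdF : bd ∈ F.autGroup R := Inter.autE_le_autF hDF le_rfl hbd
  set γ : MulAut R := bd⁻¹ * ag with hγ
  have hγF : γ ∈ F.autGroup R := mul_mem (inv_mem hbdF) hag
  have hfix : ∀ {a : MulAut R}, a ∈ F.autGroup R → ∀ x : R, (x : Ω) ∈ V ⊓ S₂ → a x = x := fun {a} ha x hx => by
    obtain ⟨f, hf, -, hfe⟩ := exists_hom_of_aut le_rfl ha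
    exact Subtype.ext ((hfe x).symm.trans (h.split hf hx.1 hx.2))
  have hz : ∀ x : R, (x : Ω)⁻¹ * (γ x : R) ∈ V ⊓ S₂ := fun x => by
    have h1 : ((ag x : R) : Ω)⁻¹ * (bd x : R) ∈ V ⊓ S₂ := by rw [hage, hbde]; exact hoff x
    have h2 : ((bd x)⁻¹ * ag x : R).1 ∈ V ⊓ S₂ := by
      have := inv_mem h1
      rw [mul_inv_rev, inv_inv] at this
      exact this
    have h3 : bd⁻¹ ((bd x)⁻¹ * ag x) = x⁻¹ * γ x := by
      rw [map_mul, map_inv, MulAut.inv_apply_self]; rfl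
    rw [hfix (inv_mem hbdF) _ h2] at h3
    have h4 := congrArg Subtype.val h3
    rw [show (x : Ω)⁻¹ * (γ x : R) = ((x⁻¹ * γ x : R) : Ω) from rfl, ← h4]
    exact h2
  obtain ⟨k, hk⟩ := pow_eq_one_of_offset hS hz fun x hx => hfix hγF x hx
  have hγD : γ ∈ D.autGroup R := autInducedBy_le_autGroup D le_rfl (inn_of_pElement hS hF hγF hk)
  have hagD : ag ∈ D.autGroup R := by
    rw [show ag = bd * γ by rw [hγ, mul_inv_cancel_left]]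
    exact mul_mem hbd hγD
  exact hom_congr ((mem_autGroup le_rfl).1 hagD) fun x => (hage x).symm

omit [Finite S] [Fact p.Prime] in
theorem eq_of_hom_eq {D : FusionSystem S} (h : ∀ P : Subgroup Ω, D.Hom P = F.Hom P) : D = F :=
  fusion_ext fun P φ => iff_of_eq (congrArg (φ ∈ ·) (h P))

variable (Ω) in
/-- For systems with fewer than `m` maps, the base of a component of a central product lies in a factor. -/
def BaseSplit (q m : ℕ) : Prop :=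
  ∀ {S S₁ S₂ : Subgroup Ω} [Finite S] {F₁ : FusionSystem S₁} {F₂ : FusionSystem S₂} {F : FusionSystem S},
    (homs F).ncard < m → IsPGroup q S → F.IsSaturated q → F₁.IsSaturated q → F₂.IsSaturated q → CP F₁ F₂ F →
    ∀ {T : Subgroup Ω} {C : FusionSystem T}, C.IsComponentIn F q → T ≤ S₁ ∨ T ≤ S₂

/-- The step, by induction on the subnormal chain. -/
theorem component_chain {q : ℕ} {T V : Subgroup Ω} {C : FusionSystem T} {F' : FusionSystem V}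
    (hC : C.IsSubnormalIn F' q) :
    ∀ [Fact q.Prime] [Finite V] {m : ℕ}, BaseSplit Ω q m → ∀ {S₁ S₂ : Subgroup Ω} {F₁ : FusionSystem S₁}
      {F₂ : FusionSystem S₂}, (homs F').ncard ≤ m → IsPGroup q V → F'.IsSaturated q → F₁.IsSaturated q →
      F₂.IsSaturated q → CP F₁ F₂ F' → C.Quasisimple q → T ≤ S₁ ∨ T ≤ S₂ := by
  induction hC with
  | refl F p =>
    intro _ _ m _ S₁ S₂ F₁ F₂ _ hS hF hs₁ hs₂ hcp hq
    have hn₁ := hcp.normal₁ hS hF hs₁ hs₂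
    have hn₂ := hcp.swap.normal₁ hS hF hs₂ hs₁
    rcases weaklyNormal_quasisimple hS hq hn₁.1 with h₁ | ⟨h₁, -⟩
    · rcases weaklyNormal_quasisimple hS hq hn₂.1 with h₂ | ⟨h₂, -⟩
      · refine absurd (fun x hx => ?_) (not_le_center hS hq)
        obtain ⟨a, ha, b, hb, rfl⟩ := hcp.decomp x hx
        exact mul_mem (h₁ ha) (h₂ hb)
      · exact .inr h₂.ge
    · exact .inl h₁.ge
  | @step U S C D F p hsub hDF ih =>
    intro _ _ m IH S₁ S₂ F₁ F₂ hm hS hF hs₁ hs₂ hcp hq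
    obtain ⟨⟨hDs, -, hDi⟩, -⟩ := id hDF
    have hU := hDi.2.1
    haveI := finite_sub (S := S) hU.1
    haveI := hcp.fin₁
    haveI := hcp.swap.fin₁
    have hUp : IsPGroup p U := isPGroup_of_le hS hU.1
    have hn₁ := hcp.normal₁ hS hF hs₁ hs₂
    have hn₂ := hcp.swap.normal₁ hS hF hs₂ hs₁
    obtain ⟨E₁, ⟨hE₁F, hE₁D, hE₁₁⟩, -⟩ := Inter.exists_inter hS hDF hn₁
    obtain ⟨E₂, ⟨hE₂F, hE₂D, hE₂₂⟩, -⟩ := Inter.exists_inter hS hDF hn₂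
    have he₁ := hE₁₁.1.2.2.1
    have he₂ := hE₂₂.1.2.2.1
    obtain ⟨X, hX, hXs⟩ := hcp.exists_sub hS he₁ he₂ hE₁₁.1.1 hE₂₂.1.1
    have hWS : ((U ⊓ S₁) ⊔ (U ⊓ S₂) : Subgroup Ω) ≤ S := sup_le (inf_le_left.trans hU.1) (inf_le_left.trans hU.1)
    haveI := finite_sub (S := S) hWS
    have hWp : IsPGroup p ((U ⊓ S₁) ⊔ (U ⊓ S₂) : Subgroup Ω) := isPGroup_of_le hS hWS
    have hTW : T ≤ ((U ⊓ S₁) ⊔ (U ⊓ S₂) : Subgroup Ω) := by
      refine le_trans ?_ (hcp.hyperfocal_le hS hs₁ hs₂ hDi.1 hU)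
      refine hq.2.1.ge.trans ((Subgroup.closure_le _).2 ?_)
      rintro _ ⟨P, α, x, hP, hα, rfl⟩
      have hsubC := subnormal_isSubsystemOf hsub
      have hTU : T ≤ U := src_le (hsubC _ (subtype_mem C le_rfl))
      let j : C.autGroup P →* D.autGroup P := Subgroup.inclusion (Inter.autE_le_autF hsubC hP)
      refine Subgroup.subset_closure ⟨P, j α, x, hP.trans hTU, ?_, rfl⟩
      have hmap : (pResidual p (C.autGroup P)).map j ≤ pResidual p (D.autGroup P) := by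
        rw [pResidual, MonoidHom.map_closure]
        refine Subgroup.closure_mono ?_
        rintro _ ⟨y, hy, rfl⟩
        show Nat.Coprime (orderOf (j y)) p
        rw [orderOf_injective j (Subgroup.inclusion_injective _)]
        exact hy
      exact hmap ⟨α, hα, rfl⟩
    have hXF : X.IsSubsystemOf F := by
      intro P φ hφ
      obtain ⟨φ₁, g₁, φ₂, g₂, e⟩ := hX.maps P φ hφ
      obtain ⟨g, hg, ge⟩ := hcp.lift hS hs₁ hs₂ (he₁ _ g₁) (he₂ _ g₂)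
      have hle : P ≤ lp (U ⊓ S₁) (U ⊓ S₂) P ⊔ lp (U ⊓ S₂) (U ⊓ S₁) P := fun w hw => by
        obtain ⟨u, hu, v, hv, rfl⟩ := hX.decomp w (src_le hφ hw)
        exact mul_mem (Subgroup.mem_sup_left (mem_lp hu hv hw))
          (Subgroup.mem_sup_right (mem_lp hv hu (by rw [← hX.comm u hu v hv]; exact hw)))
      obtain ⟨χ, hχ, hχe⟩ := exists_restrict hg hle
      refine hom_congr hχ fun w => ?_
      obtain ⟨w, hw⟩ := w
      obtain ⟨u, hu, v, hv, rfl⟩ := hX.decomp w (src_le hφ hw)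
      have hu' := mem_lp hu hv hw
      have hv' := mem_lp (P := P) hv hu (by rw [← hX.comm u hu v hv]; exact hw)
      rw [hχe, e u v hu' hv' hw]
      exact (ge u v hu' hv' (hle hw)).symm
    have hWc : F.StronglyClosed ((U ⊓ S₁) ⊔ (U ⊓ S₂) : Subgroup Ω) := by
      refine ⟨hWS, fun R hR φ hφ x => ?_⟩
      obtain ⟨x, hx⟩ := x
      obtain ⟨u, hu, v, hv, rfl⟩ := hX.decomp x (hR hx)
      obtain ⟨φ₁, g₁, φ₂, g₂, e⟩ := hcp.maps R φ hφ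
      have hu' : u ∈ lp S₁ S₂ R := mem_lp hu.2 hv.2 hx
      have hv' : v ∈ lp S₂ S₁ R := mem_lp hv.2 hu.2 (by rw [← hX.comm u hu v hv]; exact hx)
      rw [e u v hu' hv' hx]
      exact mul_mem
        (Subgroup.mem_sup_left ⟨stronglyClosed_apply_mem hU (hcp.sub₁ hS hs₁ hs₂ _ g₁) (x := ⟨u, hu'⟩) hu.1,
          apply_mem g₁ _⟩)
        (Subgroup.mem_sup_right
          ⟨stronglyClosed_apply_mem hU (hcp.swap.sub₁ hS hs₂ hs₁ _ g₂) (x := ⟨v, hv'⟩) hv.1, apply_mem g₂ _⟩)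
    -- strong invariance of `X` in `F`
    have hXinv : X.IsInvariantIn F := by
      refine (S5119.result p hS F hF X hXF hWc).2 fun P Q hPQ hQW φ hφ hφQ ψ hψ => ?_
      set P' := (P.subgroupOf Q).map ψ with hP'
      obtain ⟨χ, hχ, hχe⟩ := transport hPQ (hXF _ hφ) hφQ hψ
      refine ⟨χ, ?_, hχe⟩
      have hP'W : P' ≤ ((U ⊓ S₁) ⊔ (U ⊓ S₂) : Subgroup Ω) := by
        rintro _ ⟨q, -, rfl⟩
        exact stronglyClosed_apply_mem hWc hψ (hQW q.2)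
      obtain ⟨φ₁, a₁, φ₂, a₂, eφ⟩ := hX.maps P φ hφ
      obtain ⟨ψ₁, b₁, ψ₂, b₂, eψ⟩ := hcp.maps Q ψ hψ
      set Q₁ := lp (U ⊓ S₁) (U ⊓ S₂) Q with hQ₁
      set Q₂ := lp (U ⊓ S₂) (U ⊓ S₁) Q with hQ₂
      have hQ₁le : Q₁ ≤ lp S₁ S₂ Q := Subgroup.closure_mono fun _ ⟨ha, b, hb, hab⟩ => ⟨ha.2, b, hb.2, hab⟩
      have hQ₂le : Q₂ ≤ lp S₂ S₁ Q := Subgroup.closure_mono fun _ ⟨ha, b, hb, hab⟩ => ⟨ha.2, b, hb.2, hab⟩
      obtain ⟨σ₁, c₁, σ₁e⟩ := exists_restrict b₁ hQ₁le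
      obtain ⟨σ₂, c₂, σ₂e⟩ := exists_restrict b₂ hQ₂le
      have hPQ₁ : lp (U ⊓ S₁) (U ⊓ S₂) P ≤ Q₁ :=
        Subgroup.closure_mono fun _ ⟨ha, b, hb, hab⟩ => ⟨ha, b, hb, hPQ hab⟩
      have hPQ₂ : lp (U ⊓ S₂) (U ⊓ S₁) P ≤ Q₂ :=
        Subgroup.closure_mono fun _ ⟨ha, b, hb, hab⟩ => ⟨ha, b, hb, hPQ hab⟩
      have hQ₁into : ∀ x, φ₁ x ∈ Q₁ := by
        rintro ⟨u, hu'⟩
        obtain ⟨hu, v, hv, huv⟩ := exists_of_mem_lp hX.comm hu'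
        have hv' : v ∈ lp (U ⊓ S₂) (U ⊓ S₁) P := mem_lp hv hu (by rw [← hX.comm u hu v hv]; exact huv)
        refine mem_lp (apply_mem a₁ _) (apply_mem a₂ ⟨v, hv'⟩) ?_
        rw [← eφ u v hu' hv' huv]; exact hφQ _
      have hQ₂into : ∀ x, φ₂ x ∈ Q₂ := by
        rintro ⟨v, hv'⟩
        obtain ⟨hv, u, hu, hvu⟩ := exists_of_mem_lp hX.swap.comm hv'
        have huv : u * v ∈ P := by rw [hX.comm u hu v hv]; exact hvu
        have hu' : u ∈ lp (U ⊓ S₁) (U ⊓ S₂) P := mem_lp hu hv huv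
        refine mem_lp (apply_mem a₂ _) (apply_mem a₁ ⟨u, hu'⟩) ?_
        rw [← hX.comm _ (apply_mem a₁ _) _ (apply_mem a₂ _), ← eφ u v hu' hv' huv]; exact hφQ _
      obtain ⟨χ₁, d₁, χ₁e⟩ := (S5119.result p (isPGroup_of_le hS hcp.le₁) F₁ hs₁ E₁ he₁ hE₁₁.1.2.2.2.1).1
        hE₁₁.1.2.2 _ Q₁ hPQ₁ lp_le φ₁ a₁ hQ₁into σ₁ c₁
      obtain ⟨χ₂, d₂, χ₂e⟩ := (S5119.result p (isPGroup_of_le hS hcp.le₂) F₂ hs₂ E₂ he₂ hE₂₂.1.2.2.2.1).1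
        hE₂₂.1.2.2 _ Q₂ hPQ₂ lp_le φ₂ a₂ hQ₂into σ₂ c₂
      -- the components of the elements of `P'`
      have hfib : ∀ u' ∈ (U ⊓ S₁), ∀ v' ∈ (U ⊓ S₂), u' * v' ∈ P' →
          ∃ (u v : Ω) (hu : u ∈ lp (U ⊓ S₁) (U ⊓ S₂) P) (hv : v ∈ lp (U ⊓ S₂) (U ⊓ S₁) P) (huv : u * v ∈ P),
            σ₁ ⟨u, hPQ₁ hu⟩ = u' ∧ σ₂ ⟨v, hPQ₂ hv⟩ = v' ∧ ψ ⟨u * v, hPQ huv⟩ = u' * v' := by
        intro u' hu' v' hv' ⟨q, hqP, hqe⟩
        obtain ⟨u, hu, v, hv, he⟩ := hX.decomp q (hQW q.2)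
        have huv : u * v ∈ P := he ▸ hqP
        have hlu : u ∈ lp S₁ S₂ Q := mem_lp hu.2 hv.2 (hPQ huv)
        have hlv : v ∈ lp S₂ S₁ Q := mem_lp hv.2 hu.2 (by rw [← hX.comm u hu v hv]; exact hPQ huv)
        have hval : ψ₁ ⟨u, hlu⟩ * ψ₂ ⟨v, hlv⟩ = u' * v' := by
          rw [← eψ u v hlu hlv (hPQ huv), ← hqe]
          exact congrArg ψ (Subtype.ext he.symm)
        have hψu : ψ₁ ⟨u, hlu⟩ ∈ U ⊓ S₁ :=
          ⟨stronglyClosed_apply_mem hU (hcp.sub₁ hS hs₁ hs₂ _ b₁) (x := ⟨u, hlu⟩) hu.1, apply_mem b₁ _⟩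
        have hψv : ψ₂ ⟨v, hlv⟩ ∈ U ⊓ S₂ :=
          ⟨stronglyClosed_apply_mem hU (hcp.swap.sub₁ hS hs₂ hs₁ _ b₂) (x := ⟨v, hlv⟩) hv.1, apply_mem b₂ _⟩
        set z := (ψ₁ ⟨u, hlu⟩)⁻¹ * u' with hz
        have hz' : z = ψ₂ ⟨v, hlv⟩ * v'⁻¹ := by
          apply mul_left_cancel (a := ψ₁ ⟨u, hlu⟩); apply mul_right_cancel (b := v')
          rw [hz, mul_inv_cancel_left, ← mul_assoc, inv_mul_cancel_right]; exact hval.symm
        have hz₁ : z ∈ U ⊓ S₁ := mul_mem (inv_mem hψu) hu'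
        have hz₂ : z ∈ U ⊓ S₂ := hz' ▸ mul_mem hψv (inv_mem hv')
        have huz : u * z ∈ U ⊓ S₁ := mul_mem hu hz₁
        have hzv : z⁻¹ * v ∈ U ⊓ S₂ := mul_mem (inv_mem hz₂) hv
        have huv' : u * z * (z⁻¹ * v) ∈ P := by rw [mul_assoc, mul_inv_cancel_left]; exact huv
        have m₁ : u * z ∈ lp (U ⊓ S₁) (U ⊓ S₂) P := mem_lp huz hzv huv'
        have m₂ : z⁻¹ * v ∈ lp (U ⊓ S₂) (U ⊓ S₁) P := mem_lp hzv huz (by
          rw [← hX.comm _ huz _ hzv]; exact huv')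
        refine ⟨_, _, m₁, m₂, huv', ?_, ?_, ?_⟩
        · have hzm : z ∈ lp S₁ S₂ Q := by
            have := mul_mem (inv_mem hlu) (hQ₁le (hPQ₁ m₁))
            rwa [inv_mul_cancel_left] at this
          rw [σ₁e, show (⟨u * z, hQ₁le (hPQ₁ m₁)⟩ : lp S₁ S₂ Q) = ⟨u, hlu⟩ * ⟨z, hzm⟩ from rfl, map_mul,
            hcp.fix₁ _ ψ₁ b₁ ⟨z, hzm⟩ hz₂.2]
          exact mul_inv_cancel_left _ _
        · have hzm : z⁻¹ ∈ lp S₂ S₁ Q := by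
            have := mul_mem (hQ₂le (hPQ₂ m₂)) (inv_mem hlv)
            rwa [mul_inv_cancel_right] at this
          rw [σ₂e, show (⟨z⁻¹ * v, hQ₂le (hPQ₂ m₂)⟩ : lp S₂ S₁ Q) = ⟨z⁻¹, hzm⟩ * ⟨v, hlv⟩ from rfl, map_mul,
            hcp.fix₂ _ ψ₂ b₂ ⟨z⁻¹, hzm⟩ (inv_mem hz₁.2)]
          show z⁻¹ * ψ₂ ⟨v, hlv⟩ = v'
          rw [hz', mul_inv_rev, inv_inv, inv_mul_cancel_right]
        · rw [show (⟨u * z * (z⁻¹ * v), hPQ huv'⟩ : Q) = ⟨u * v, hPQ huv⟩ from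
            Subtype.ext (by show u * z * (z⁻¹ * v) = u * v; rw [mul_assoc, mul_inv_cancel_left]), eψ u v hlu hlv]
          exact hval
      have l₁ : lp (U ⊓ S₁) (U ⊓ S₂) P' ≤ ((lp (U ⊓ S₁) (U ⊓ S₂) P).subgroupOf Q₁).map σ₁ := by
        refine (Subgroup.closure_le _).2 ?_
        rintro u' ⟨hu', v', hv', huv⟩
        obtain ⟨u, v, hu, -, -, e1, -, -⟩ := hfib u' hu' v' hv' huv
        exact ⟨⟨u, hPQ₁ hu⟩, hu, e1⟩
      have l₂ : lp (U ⊓ S₂) (U ⊓ S₁) P' ≤ ((lp (U ⊓ S₂) (U ⊓ S₁) P).subgroupOf Q₂).map σ₂ := by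
        refine (Subgroup.closure_le _).2 ?_
        rintro v' ⟨hv', u', hu', hvu⟩
        obtain ⟨u, v, -, hv, -, -, e2, -⟩ := hfib u' hu' v' hv' (by rw [hX.comm u' hu' v' hv']; exact hvu)
        exact ⟨⟨v, hPQ₂ hv⟩, hv, e2⟩
      obtain ⟨ξ₁, k₁, ξ₁e⟩ := exists_restrict d₁ l₁
      obtain ⟨ξ₂, k₂, ξ₂e⟩ := exists_restrict d₂ l₂
      refine hX.build P' χ hP'W ξ₁ k₁ ξ₂ k₂ fun u' v' hu' hv' huv' => ?_
      obtain ⟨u, v, hu, hv, huv, e1, e2, e3⟩ := hfib u' (lp_le hu') v' (lp_le hv') huv'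
      have hm : ψ (Subgroup.inclusion hPQ ⟨u * v, huv⟩) ∈ P' := ⟨_, huv, rfl⟩
      rw [show (⟨u' * v', huv'⟩ : P') = ⟨ψ (Subgroup.inclusion hPQ ⟨u * v, huv⟩), hm⟩ from Subtype.ext e3.symm,
        hχe, ξ₁e, ξ₂e]
      have n₁ : σ₁ (Subgroup.inclusion hPQ₁ ⟨u, hu⟩) ∈ ((lp (U ⊓ S₁) (U ⊓ S₂) P).subgroupOf Q₁).map σ₁ :=
        ⟨_, hu, rfl⟩
      have n₂ : σ₂ (Subgroup.inclusion hPQ₂ ⟨v, hv⟩) ∈ ((lp (U ⊓ S₂) (U ⊓ S₁) P).subgroupOf Q₂).map σ₂ :=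
        ⟨_, hv, rfl⟩
      rw [show (⟨u', l₁ hu'⟩ : ↥(((lp (U ⊓ S₁) (U ⊓ S₂) P).subgroupOf Q₁).map σ₁)) =
          ⟨σ₁ (Subgroup.inclusion hPQ₁ ⟨u, hu⟩), n₁⟩ from Subtype.ext e1.symm, χ₁e,
        show (⟨v', l₂ hv'⟩ : ↥(((lp (U ⊓ S₂) (U ⊓ S₁) P).subgroupOf Q₂).map σ₂)) =
          ⟨σ₂ (Subgroup.inclusion hPQ₂ ⟨v, hv⟩), n₂⟩ from Subtype.ext e2.symm, χ₂e, σ₁e, σ₂e]
      have hq : φ₁ ⟨u, hu⟩ * φ₂ ⟨v, hv⟩ ∈ Q := by rw [← eφ u v hu hv huv]; exact hφQ _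
      refine Eq.trans (congrArg ψ (Subtype.ext (eφ u v hu hv huv) : _ = (⟨_, hq⟩ : Q))) ?_
      exact eψ _ _ _ _ hq
    by_cases hall : ∀ P : Subgroup Ω, X.Hom P = F.Hom P
    · have hWS' : ((U ⊓ S₁) ⊔ (U ⊓ S₂) : Subgroup Ω) = S := le_antisymm hWS (src_le (hall S ▸ subtype_mem F le_rfl))
      have hUS : U = S := le_antisymm hU.1 (hWS'.ge.trans (sup_le inf_le_left inf_le_left))
      subst hUS
      have hF₁E : ∀ (P : Subgroup Ω) (φ : P →* Ω), φ ∈ F₁.Hom P → φ ∈ E₁.Hom P := fun P φ hφ =>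
        hX.res₁ (hall P ▸ hcp.sub₁ hS hs₁ hs₂ P hφ) (le_inf ((src_le hφ).trans hcp.le₁) (src_le hφ))
      have hF₂E : ∀ (P : Subgroup Ω) (φ : P →* Ω), φ ∈ F₂.Hom P → φ ∈ E₂.Hom P := fun P φ hφ =>
        hX.swap.res₁ (hall P ▸ hcp.swap.sub₁ hS hs₂ hs₁ P hφ) (le_inf ((src_le hφ).trans hcp.le₂) (src_le hφ))
      have hDF' : D = F := by
        refine eq_of_hom_eq (S5338.result p hS F hF D hDs hDi.1 ?_
          (le_antisymm (Inter.autE_le_autF hDi.1 le_rfl) fun α hα => ?_))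
        · intro Q φ hφ R hRQ ψ hψ hψQ
          obtain ⟨χ, hχ, hχe⟩ := (S5119.result p hS F hF D hDi.1 hDi.2.1).1 hDi R Q hRQ (src_le hφ) ψ hψ hψQ φ hφ
          exact ⟨χ, hχ, fun x hx => hχe x hx⟩
        obtain ⟨φ, hφ, -, hφe⟩ := exists_hom_of_aut le_rfl hα
        obtain ⟨φ₁, g₁, φ₂, g₂, e⟩ := hcp.maps U φ hφ
        obtain ⟨G₁, hG₁, eG₁⟩ := hcp.lift hS hs₁ hs₂ g₁ (subtype_mem F₂ (le_rfl : S₂ ≤ S₂))
        obtain ⟨G₂, hG₂, eG₂⟩ := hcp.swap.lift hS hs₂ hs₁ g₂ (subtype_mem F₁ (le_rfl : S₁ ≤ S₁))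
        have m₁ : S₁ ≤ lp S₁ S₂ U := fun a ha => mem_lp ha (one_mem _) (by rw [mul_one]; exact hcp.le₁ ha)
        have m₂ : S₂ ≤ lp S₂ S₁ U := fun a ha => mem_lp ha (one_mem _) (by rw [mul_one]; exact hcp.le₂ ha)
        have n₁ : U ≤ lp S₁ S₂ U ⊔ S₂ := fun w hw => by
          obtain ⟨a, ha, b, hb, rfl⟩ := hcp.decomp w hw
          exact mul_mem (Subgroup.mem_sup_left (m₁ ha)) (Subgroup.mem_sup_right hb)
        have n₂ : U ≤ lp S₂ S₁ U ⊔ S₁ := fun w hw => by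
          obtain ⟨a, ha, b, hb, rfl⟩ := hcp.decomp w hw
          exact mul_mem (Subgroup.mem_sup_right ha) (Subgroup.mem_sup_left (m₂ hb))
        obtain ⟨H₁, hH₁, eH₁⟩ := exists_restrict hG₁ n₁
        obtain ⟨H₂, hH₂, eH₂⟩ := exists_restrict hG₂ n₂
        have v₁ : ∀ (a b : Ω) (ha : a ∈ S₁) (hb : b ∈ S₂) (hab : a * b ∈ U),
            H₁ ⟨a * b, hab⟩ = φ₁ ⟨a, m₁ ha⟩ * b := fun a b ha hb hab => by
          rw [eH₁]; exact eG₁ a b (m₁ ha) hb (n₁ hab)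
        have v₂ : ∀ (a b : Ω) (ha : a ∈ S₁) (hb : b ∈ S₂) (hba : b * a ∈ U),
            H₂ ⟨b * a, hba⟩ = φ₂ ⟨b, m₂ hb⟩ * a := fun a b ha hb hba => by
          rw [eH₂]; exact eG₂ b a (m₂ hb) ha (n₂ hba)
        have i₁ : ∀ x : U, (x : Ω) ∈ S₂ → H₁ x = x := fun x hx => by
          rw [show x = (⟨1 * (x : Ω), by rw [one_mul]; exact x.2⟩ : U) from Subtype.ext (one_mul _).symm,
            v₁ 1 x (one_mem _) hx]
          simp [map_one φ₁, show (⟨(1 : Ω), m₁ (one_mem _)⟩ : lp S₁ S₂ U) = 1 from rfl]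
        have i₂ : ∀ x : U, (x : Ω) ∈ S₁ → H₂ x = x := fun x hx => by
          rw [show x = (⟨1 * (x : Ω), by rw [one_mul]; exact x.2⟩ : U) from Subtype.ext (one_mul _).symm,
            v₂ x 1 hx (one_mem _)]
          simp [map_one φ₂, show (⟨(1 : Ω), m₂ (one_mem _)⟩ : lp S₂ S₁ U) = 1 from rfl]
        have hD₁ := hcp.top_mem hS hF hs₁ hs₂ hDi.1 hE₁D (inf_eq_right.2 hcp.le₁) hF₁E rfl hH₁ i₁
        have hD₂ := hcp.swap.top_mem hS hF hs₂ hs₁ hDi.1 hE₂D (inf_eq_right.2 hcp.le₂) hF₂E rfl hH₂ i₂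
        obtain ⟨K, hK, hKe⟩ := exists_comp hD₂ hD₁ (apply_mem hD₂)
        refine mem_autGroup_of_hom hK fun x => ?_
        obtain ⟨w, hw⟩ := x
        obtain ⟨a, ha, b, hb, rfl⟩ := hcp.decomp w hw
        rw [hKe, ← hφe, e a b (m₁ ha) (m₂ hb) hw]
        have hba : b * a ∈ U := by rw [← hcp.comm a ha b hb]; exact hw
        have hb2 : φ₂ ⟨b, m₂ hb⟩ ∈ S₂ := apply_mem g₂ _
        have hab2 : a * φ₂ ⟨b, m₂ hb⟩ ∈ U := mul_mem (hcp.le₁ ha) (hcp.le₂ hb2)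
        refine Eq.symm (Eq.trans (congrArg H₁ (Subtype.ext ?_ : _ = (⟨a * φ₂ ⟨b, m₂ hb⟩, hab2⟩ : U))) (v₁ a _ ha hb2 hab2))
        show H₂ ⟨a * b, hw⟩ = a * φ₂ ⟨b, m₂ hb⟩
        rw [show (⟨a * b, hw⟩ : U) = ⟨b * a, hba⟩ from Subtype.ext (hcp.comm a ha b hb), v₂ a b ha hb hba]
        exact (hcp.comm a ha _ hb2).symm
      subst hDF'
      exact ih IH hm hS hF hs₁ hs₂ hcp hq
    · obtain ⟨R, hR⟩ := FusionP3.Prime.exists_residual hWp hXs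
      have hRF := FusionP3.Prime.Normality.residual_isNormalIn hS ⟨hXs, hF, hXinv⟩ hR
      have hXX : X.IsWeaklyNormalIn X p := ⟨hXs, hXs, (S5119.result p hWp X hXs X (fun P φ hφ => hφ)
        ⟨le_rfl, fun R hR φ hφ x => apply_mem hφ x⟩).2 fun P Q hPQ _ φ hφ hφQ ψ hψ => transport hPQ hφ hφQ hψ⟩
      have hRX := FusionP3.Prime.Normality.residual_isNormalIn hWp hXX hR
      obtain ⟨I, ⟨-, hID, hIR⟩, -⟩ := Inter.exists_inter hS hDF hRF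
      have hTU : T ≤ U := src_le (subnormal_isSubsystemOf hsub _ (subtype_mem C le_rfl))
      have hCI := component_in_normal hsub inferInstance hUp hq I hID (le_inf hTU hTW)
      have hCX : C.IsComponentIn X p := ⟨.step (.step hCI hIR) hRX, hq⟩
      have hlt : (homs X).ncard < m := by
        refine lt_of_lt_of_le ?_ hm
        refine Set.ncard_lt_ncard ⟨fun x hx => hXF _ hx, fun hle => hall fun P => ?_⟩ (homs_finite F)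
        exact Set.Subset.antisymm (hXF P) fun φ hφ => hle (a := ⟨P, φ⟩) hφ
      rcases IH hlt hWp hXs hE₁₁.1.1 hE₂₂.1.1 hX hCX with h | h
      · exact .inl (h.trans inf_le_right)
      · exact .inr (h.trans inf_le_right)


/-- The base of a component of a central product lies in a factor. -/
theorem component_base (q m : ℕ) [Fact q.Prime] : BaseSplit Ω q m := by
  induction m with
  | zero => exact fun h => absurd h (Nat.not_lt_zero _)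
  | succ m ih =>
    intro S S₁ S₂ _ F₁ F₂ F hm hS hF hs₁ hs₂ hcp T C hC
    exact component_chain hC.1 ih (Nat.lt_succ_iff.1 hm) hS hF hs₁ hs₂ hcp hC.2

end Cfsg.Agent.Lib.FS.CentralProd54
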