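import Cfsg.Agent.Lib.FusionP3.Prime.Normality
import Cfsg.Agent.Lib.FusionP3.Prime.Saturated
import Cfsg.Agent.Lib.FusionSystem.FactorSaturated
import Cfsg.Agent.Lib.FusionSystem.ComponentCore
import Cfsg.Agent.Lib.FusionSystem.Inter.Exists
import Cfsg.Agent.S5119
import Cfsg.Agent.S5338

/-!
Weakly normal subsystems of a quasisimple fusion system, and components inside normal subsystems.
-/

set_option autoImplicit false
set_option linter.style.haveILetI false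
set_option linter.unusedSectionVars false

namespace Cfsg.Agent.Lib.FS.CentralProd54

open Cfsg Cfsg.FusionSystem Cfsg.Agent.Lib Cfsg.Agent.Lib.FS

universe u

variable {Ω : Type u} [Group Ω] {S : Subgroup Ω} [Finite S] {p : ℕ} [Fact p.Prime]
  {F : FusionSystem S}

/-- An element of the centre is fixed by every map. -/
theorem center_fix (hS : IsPGroup p S) (hF : F.IsSaturated p) {P : Subgroup Ω} {φ : P →* Ω}
    (hφ : φ ∈ F.Hom P) (x : P) (hx : (x : Ω) ∈ F.center) : φ x = x := by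
  obtain ⟨τ, hτ, hτe⟩ := exists_restrict hφ (Subgroup.zpowers_le.2 x.2)
  have h := ((isCentral_iff hS hF).1 (FusionAlperin.Join.isCentral_center F)).2 _ hx _ ⟨τ, hτ, rfl⟩
  exact (hτe ⟨(x : Ω), Subgroup.mem_zpowers _⟩).symm.trans h

theorem center_comm (F : FusionSystem S) {z x : Ω} (hz : z ∈ F.center) (hx : x ∈ S) : z * x = x * z :=
  (center_le_centralizer F hz x hx).symm

/-- A `p`-element of `Aut_F(S)` is inner. -/
theorem inn_of_pElement (hS : IsPGroup p S) (hF : F.IsSaturated p) {γ : MulAut S}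
    (hγ : γ ∈ F.autGroup S) {k : ℕ} (hk : γ ^ p ^ k = 1) : γ ∈ autInducedBy S S := by
  obtain ⟨R, hR⟩ := (fullyAutomized_of_fullyNormalized hS hF (isFullyNormalized_base F)).2
  haveI hn : (R : Subgroup (F.autGroup S)).Normal := by
    rw [hR]
    refine ⟨fun a ha g => ?_⟩
    obtain ⟨s, hs, hse⟩ := mem_autInducedBy.1 (Subgroup.mem_subgroupOf.1 ha)
    refine Subgroup.mem_subgroupOf.2 (mem_autInducedBy.2 ⟨_, ((g : MulAut S) ⟨s, hs⟩).2, fun x => ?_⟩)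
    have : (a : MulAut S) = MulAut.conj (⟨s, hs⟩ : S) := MulEquiv.ext fun y => Subtype.ext (hse y)
    simp only [Subgroup.coe_mul, Subgroup.coe_inv, MulAut.mul_apply, this, MulAut.conj_apply, map_mul,
      map_inv, MulAut.apply_inv_self]
  obtain ⟨R', hR'⟩ := IsPGroup.exists_le_sylow (P := Subgroup.zpowers (⟨γ, hγ⟩ : F.autGroup S)) (by
    rintro ⟨y, m, rfl⟩
    refine ⟨k, Subtype.ext (Subtype.ext ?_)⟩
    show ((γ ^ m) ^ p ^ k) = 1
    rw [← zpow_natCast, ← zpow_mul, mul_comm, zpow_mul, zpow_natCast, hk, one_zpow])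
  obtain ⟨g, hg⟩ := MulAction.exists_smul_eq (F.autGroup S) R R'
  rw [← hg, Sylow.smul_eq_of_normal] at hR'
  have h := hR' (Subgroup.mem_zpowers (⟨γ, hγ⟩ : F.autGroup S))
  rw [hR] at h
  exact Subgroup.mem_subgroupOf.1 h

/-- An automorphism trivial on `S / Z` that fixes `Z` is a `p`-element. -/
theorem pow_eq_one_of_offset (hS : IsPGroup p S) {Z : Subgroup Ω} {γ : MulAut S}
    (hoff : ∀ x : S, (x : Ω)⁻¹ * (γ x : S) ∈ Z) (hfix : ∀ x : S, (x : Ω) ∈ Z → γ x = x) :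
    ∃ k : ℕ, γ ^ p ^ k = 1 := by
  obtain ⟨k, hk⟩ := IsPGroup.iff_card.1 hS
  refine ⟨k, MulEquiv.ext fun x => ?_⟩
  have hz : γ (x⁻¹ * γ x) = x⁻¹ * γ x := hfix _ (by simpa using hoff x)
  have hn : ∀ n : ℕ, (γ ^ n) x = x * (x⁻¹ * γ x) ^ n := by
    intro n
    induction n with
    | zero => simp
    | succ n ih =>
      rw [pow_succ' γ, MulAut.mul_apply, ih, map_mul, map_pow, hz, pow_succ' (x⁻¹ * γ x), ← mul_assoc x,
        mul_inv_cancel_left]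
  rw [hn, ← hk, pow_card_eq_one', mul_one]
  rfl

/-- A weakly normal subsystem of a quasisimple system is central or everything. -/
theorem weaklyNormal_quasisimple (hS : IsPGroup p S) (hq : F.Quasisimple p) {V : Subgroup Ω}
    {E : FusionSystem V} (hE : E.IsWeaklyNormalIn F p) :
    V ≤ F.center ∨ (V = S ∧ ∀ P : Subgroup Ω, E.Hom P = F.Hom P) := by
  obtain ⟨hF, hhyp, hsim⟩ := hq
  obtain ⟨hEs, -, hEi⟩ := id hE
  have hVS : V ≤ S := hEi.2.1.1
  haveI := finite_sub (S := S) hVS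
  have hVp : IsPGroup p V := isPGroup_of_le hS hVS
  have hsub : E.IsSubsystemOf F := hEi.1
  have hstr := (S5119.result p hS F hF E hsub hEi.2.1).1 hEi
  have hsc := FusionEssential.Transport.stronglyClosed_center hS hF
  set Z := F.center.subgroupOf S with hZ
  set θ := QuotientGroup.mk' Z with hθ
  have hker : ∀ s : S, θ s = 1 ↔ (s : Ω) ∈ F.center := fun s =>
    (QuotientGroup.eq_one_iff s).trans Subgroup.mem_subgroupOf
  have hr : θ.range = ⊤ := MonoidHom.range_eq_top.2 (QuotientGroup.mk'_surjective _)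
  obtain ⟨Fb, hFb⟩ := exists_factorSystem (S' := ⊤) hsc θ hker hr
  have hFbs := hsim Fb hFb
  haveI : Finite (S ⧸ Z) := Quotient.finite _
  haveI := finite_image (S := S) hr
  have hFbp : IsPGroup p (⊤ : Subgroup (S ⧸ Z)) := isPGroup_image hS hr
  set θV : V →* S ⧸ Z := θ.comp (Subgroup.inclusion hVS) with hθV
  have hkerV : ∀ v : V, θV v = 1 ↔ (v : Ω) ∈ F.center ⊓ V := fun v => by
    rw [Subgroup.mem_inf]
    exact (hker _).trans ⟨fun h => ⟨h, v.2⟩, And.left⟩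
  have hscV : E.StronglyClosed (F.center ⊓ V) :=
    ⟨inf_le_right, fun R hR φ hφ x =>
      ⟨hsc.2 R (hR.trans inf_le_left) φ (hsub R hφ) x, apply_mem hφ x⟩⟩
  obtain ⟨Eb, hEb⟩ := exists_factorSystem (S' := θV.range) hscV θV hkerV rfl
  haveI : Finite ↥θV.range := finite_image (S := V) (θ := θV) rfl
  have hEbs : Eb.IsSaturated p := factor_isSaturated hVp hEs hscV hEb
  have hmor := (factor_isSurjectiveMorphism hS hF hsc hFb).1
  have hsubb : Eb.IsSubsystemOf Fb := by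
    intro P' φ' hφ'
    obtain ⟨hP', φ, hφ, hind⟩ := (hEb.2.2.2 P' φ').1 hφ'
    obtain ⟨χ, hχ, hχe⟩ := hmor.2 _ φ (hsub _ hφ)
    have hle : P' ≤ imageAlong θ (preimageAlong θV P') := by
      intro y hy
      obtain ⟨v, rfl⟩ := hP' hy
      exact ⟨Subgroup.inclusion hVS v, Subgroup.mem_subgroupOf.2 (mem_preimageAlong.2 ⟨v.2, hy⟩), rfl⟩
    obtain ⟨χ', hχ', hχ'e⟩ := exists_restrict hχ hle
    refine hom_congr hχ' fun y => ?_
    obtain ⟨y, hy⟩ := y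
    obtain ⟨v, rfl⟩ := hP' hy
    have hv : (v : Ω) ∈ preimageAlong θV P' := mem_preimageAlong.2 ⟨v.2, hy⟩
    rw [hχ'e]
    exact (inducedAlong_apply hind ⟨v, hv⟩ v.2 hy (apply_mem hφ _)).trans
      (inducedAlong_apply hχe ⟨v, hv⟩ (hVS v.2) (hle hy) (apply_mem (hsub _ hφ) _)).symm
  have hVb : Fb.StronglyClosed θV.range := by
    refine ⟨le_top, fun R' hR' φ' hφ' y => ?_⟩
    obtain ⟨hR'S, φ, hφ, hind⟩ := (hFb.2.2.2 R' φ').1 hφ'
    obtain ⟨y, hy⟩ := y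
    obtain ⟨v, rfl⟩ := hR' hy
    have hv : (v : Ω) ∈ preimageAlong θ R' := mem_preimageAlong.2 ⟨hVS v.2, hy⟩
    have hin : φ ⟨v, hv⟩ ∈ V := stronglyClosed_apply_mem hEi.2.1 hφ (x := ⟨v, hv⟩) v.2
    exact ⟨⟨_, hin⟩, (inducedAlong_apply hind ⟨v, hv⟩ (hVS v.2) hy (apply_mem hφ _)).symm⟩
  have hEbi : Eb.IsInvariantIn Fb := by
    refine (S5119.result p hFbp Fb hFbs.1 Eb hsubb hVb).2 ?_
    intro P' Q' hPQ hQV φ' hφ' hφQ ψ' hψ'
    obtain ⟨hP', e, he, hinde⟩ := (hEb.2.2.2 P' φ').1 hφ'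
    obtain ⟨-, ψ, hψ, hindψ⟩ := (hFb.2.2.2 Q' ψ').1 hψ'
    have hQQ : preimageAlong θV Q' ≤ preimageAlong θ Q' := fun v hv => by
      obtain ⟨hvV, hvQ⟩ := mem_preimageAlong.1 hv
      exact mem_preimageAlong.2 ⟨hVS hvV, hvQ⟩
    obtain ⟨σ, hσ, hσe⟩ := exists_restrict hψ hQQ
    have hPQV : preimageAlong θV P' ≤ preimageAlong θV Q' :=
      Subgroup.map_mono (Subgroup.comap_mono hPQ)
    have heQ : ∀ x, e x ∈ preimageAlong θV Q' := fun x => by
      refine mem_preimageAlong.2 ⟨apply_mem he x, ?_⟩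
      rw [← inducedAlong_apply hinde x (preimageAlong_le θV P' x.2) (mem_preimageAlong.1 x.2).2 _]
      exact hφQ _
    obtain ⟨χ, hχ, hχe⟩ := hstr _ _ hPQV (preimageAlong_le θV Q') e he heQ σ hσ
    set P1' := (P'.subgroupOf Q').map ψ' with hP1
    have hP1V : P1' ≤ θV.range := by
      rintro _ ⟨⟨q, hq⟩, -, rfl⟩
      exact stronglyClosed_apply_mem hVb hψ' (x := ⟨q, hq⟩) (hQV hq)
    -- every preimage comes from `preimageAlong θV P'`
    have hsrc : ∀ w ∈ preimageAlong θV P1', w ∈ ((preimageAlong θV P').subgroupOf _).map σ := by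
      intro w hw
      obtain ⟨hwV, hwP⟩ := mem_preimageAlong.1 hw
      obtain ⟨⟨q, hq⟩, hqP, hqe⟩ := hwP
      obtain ⟨a, rfl⟩ := hP' (Subgroup.mem_subgroupOf.1 hqP)
      have haP : (a : Ω) ∈ preimageAlong θV P' := mem_preimageAlong.2 ⟨a.2, Subgroup.mem_subgroupOf.1 hqP⟩
      have haQ : (a : Ω) ∈ preimageAlong θ Q' := hQQ (hPQV haP)
      have h1 : θ ⟨w, hVS hwV⟩ = θ ⟨ψ ⟨a, haQ⟩, apply_mem hψ _⟩ :=
        hqe.symm.trans (inducedAlong_apply hindψ ⟨a, haQ⟩ (hVS a.2) hq _)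
      have hψV : ψ ⟨a, haQ⟩ ∈ V := stronglyClosed_apply_mem hEi.2.1 hψ (x := ⟨a, haQ⟩) a.2
      set z : Ω := (ψ ⟨a, haQ⟩)⁻¹ * w with hz
      have hzc : z ∈ F.center := by
        have := (hker (⟨ψ ⟨a, haQ⟩, apply_mem hψ _⟩⁻¹ * ⟨w, hVS hwV⟩)).1 (by
          rw [map_mul, map_inv, h1, inv_mul_cancel])
        exact this
      have hzV : z ∈ V := mul_mem (inv_mem hψV) hwV
      have hzP : z ∈ preimageAlong θV P' := mem_preimageAlong.2 ⟨hzV, by
        rw [show θV ⟨z, hzV⟩ = 1 from (hkerV _).2 ⟨hzc, hzV⟩]; exact one_mem _⟩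
      refine ⟨⟨(a : Ω) * z, hPQV (mul_mem haP hzP)⟩, Subgroup.mem_subgroupOf.2 (mul_mem haP hzP), ?_⟩
      rw [hσe]
      show ψ ⟨(a : Ω) * z, _⟩ = w
      rw [show (⟨(a : Ω) * z, hQQ (hPQV (mul_mem haP hzP))⟩ : preimageAlong θ Q') =
        ⟨a, haQ⟩ * ⟨z, hQQ (hPQV hzP)⟩ from rfl, map_mul, center_fix hS hF hψ ⟨z, hQQ (hPQV hzP)⟩ hzc]
      exact mul_inv_cancel_left _ _
    obtain ⟨χ1, hχ1, hχ1e⟩ := exists_restrict hχ (fun w hw => hsrc w hw)
    have hK : E.StronglyClosed (θV.ker.map V.subtype) := by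
      rw [ker_map_eq hscV.1 hkerV]; exact hscV
    obtain ⟨χ', hχ'⟩ := exists_induced hK rfl hP1V hχ1
    refine ⟨χ', (hEb.2.2.2 _ _).2 ⟨hP1V, χ1, hχ1, hχ'⟩, fun x hx => ?_⟩
    obtain ⟨x, hxP⟩ := x
    obtain ⟨a, rfl⟩ := hP' hxP
    have haP : (a : Ω) ∈ preimageAlong θV P' := mem_preimageAlong.2 ⟨a.2, hxP⟩
    have haQ : (a : Ω) ∈ preimageAlong θ Q' := hQQ (hPQV haP)
    have hψV : ψ ⟨a, haQ⟩ ∈ V := stronglyClosed_apply_mem hEi.2.1 hψ (x := ⟨a, haQ⟩) a.2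
    have h2 : ψ' (Subgroup.inclusion hPQ ⟨θV a, hxP⟩) = θV ⟨_, hψV⟩ :=
      inducedAlong_apply hindψ ⟨a, haQ⟩ (hVS a.2) (hPQ hxP) (apply_mem hψ _)
    have hw : (ψ ⟨a, haQ⟩) ∈ preimageAlong θV P1' := mem_preimageAlong.2 ⟨hψV, h2 ▸ hx⟩
    have hmem : θV ⟨_, hψV⟩ ∈ P1' := h2 ▸ hx
    have h3 : χ' ⟨ψ' (Subgroup.inclusion hPQ ⟨θV a, hxP⟩), hx⟩ = θV ⟨χ1 ⟨_, hw⟩, apply_mem hχ1 _⟩ := by
      rw [show (⟨ψ' (Subgroup.inclusion hPQ ⟨θV a, hxP⟩), hx⟩ : P1') = ⟨θV ⟨_, hψV⟩, hmem⟩ from Subtype.ext h2]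
      exact inducedAlong_apply hχ' ⟨_, hw⟩ hψV hmem _
    rw [h3]
    have hσa : σ (Subgroup.inclusion hPQV ⟨a, haP⟩) = ψ ⟨a, haQ⟩ := hσe _
    have h4 : χ1 ⟨_, hw⟩ = σ ⟨e ⟨a, haP⟩, heQ _⟩ := by
      rw [hχ1e]
      refine Eq.trans (congrArg χ (Subtype.ext hσa.symm)) (hχe ⟨a, haP⟩ (by rw [hσa]; exact hsrc _ hw))
    have h5 : φ' ⟨θV a, hxP⟩ = θV ⟨e ⟨a, haP⟩, apply_mem he _⟩ :=
      inducedAlong_apply hinde ⟨a, haP⟩ a.2 hxP _
    have heq : e ⟨a, haP⟩ ∈ preimageAlong θ Q' := hQQ (heQ _)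
    rw [show (⟨φ' ⟨θV a, hxP⟩, hφQ _⟩ : Q') = ⟨θV ⟨e ⟨a, haP⟩, apply_mem he _⟩, h5 ▸ hφQ _⟩ from Subtype.ext h5]
    refine Eq.trans (congrArg θ (Subtype.ext ?_)) (inducedAlong_apply hindψ ⟨e ⟨a, haP⟩, heq⟩
      (hVS (apply_mem he _)) (h5 ▸ hφQ _) (apply_mem hψ _)).symm
    show χ1 ⟨_, hw⟩ = _
    rw [h4, hσe]
  obtain ⟨R, hR⟩ := FusionP3.Prime.exists_residual (isPGroup_of_le hFbp le_top : IsPGroup p θV.range) hEbs
  have hRn := FusionP3.Prime.Normality.residual_isNormalIn hFbp ⟨hEbs, hFbs.1, hEbi⟩ hR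
  rcases hFbs.2.2 _ R hRn with h | ⟨htop, hom⟩
  · exact .inl fun v hv => (hker ⟨v, hVS hv⟩).1 (Subgroup.mem_bot.1 (h ▸ ⟨⟨v, hv⟩, rfl⟩ :
      θV ⟨v, hv⟩ ∈ (⊥ : Subgroup (S ⧸ Z))))
  refine .inr ?_
  have hdec : ∀ s : S, ∃ v : V, (s : Ω)⁻¹ * v ∈ F.center := fun s => by
    obtain ⟨v, hv⟩ := htop.ge (Subgroup.mem_top (θ s))
    refine ⟨v, (hker (s⁻¹ * Subgroup.inclusion hVS v)).1 ?_⟩
    rw [map_mul, map_inv, ← hv]
    exact inv_mul_cancel _
  -- maps move elements by elements of `V`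
  have hVS' : V = S := by
    refine le_antisymm hVS (hhyp.ge.trans ?_)
    refine (Subgroup.closure_le _).2 ?_
    rintro _ ⟨P, α, x, hP, -, rfl⟩
    obtain ⟨φ, hφ, -, hφe⟩ := exists_hom_of_aut hP α.2
    obtain ⟨ψ, hψ, hψP, hψZ⟩ := (FusionAlperin.Join.isCentral_center F).2 _ φ hφ
    obtain ⟨v, hv⟩ := hdec ⟨x, hP x.2⟩
    set z : Ω := (x : Ω)⁻¹ * v with hz
    have hvm : (v : Ω) ∈ P ⊔ F.center := by
      rw [show (v : Ω) = (x : Ω) * z from (mul_inv_cancel_left _ _).symm]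
      exact mul_mem (Subgroup.mem_sup_left x.2) (Subgroup.mem_sup_right hv)
    have h1 : ψ ⟨v, hvm⟩ = ((α : MulAut P) x : P) * z := by
      rw [show (⟨v, hvm⟩ : ↥(P ⊔ F.center)) =
        Subgroup.inclusion le_sup_left x * Subgroup.inclusion le_sup_right ⟨z, hv⟩ from
        Subtype.ext (mul_inv_cancel_left _ _).symm, map_mul, hψP, hφe, hψZ ⟨z, hv⟩]
    have h2 : ψ ⟨v, hvm⟩ ∈ V := stronglyClosed_apply_mem hEi.2.1 hψ (x := ⟨v, hvm⟩) v.2
    have hxS : (x : Ω) ∈ S := hP x.2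
    have hαS : (((α : MulAut P) x : P) : Ω) ∈ S := hP ((α : MulAut P) x).2
    have : (v : Ω)⁻¹ * ψ ⟨v, hvm⟩ = (x : Ω)⁻¹ * ((α : MulAut P) x : P) := by
      rw [h1, show (v : Ω) = (x : Ω) * z from (mul_inv_cancel_left _ _).symm, mul_inv_rev, mul_assoc,
        ← mul_assoc (x : Ω)⁻¹, ← center_comm F hv (mul_mem (inv_mem hxS) hαS), inv_mul_cancel_left]
    show (x : Ω)⁻¹ * ((α : MulAut P) x : P) ∈ V
    rw [← this]
    exact mul_mem (inv_mem v.2) h2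
  refine ⟨hVS', ?_⟩
  subst hVS'
  have hle : E ≤ F := hsub
  refine S5338.result p hS F hF E hEs hle ?_ (le_antisymm (Inter.autE_le_autF hsub le_rfl) fun α hα => ?_)
  · intro Q φ hφ R hRQ ψ hψ hψQ
    obtain ⟨χ, hχ, hχe⟩ := hstr R Q hRQ (src_le hφ) ψ hψ hψQ φ hφ
    exact ⟨χ, hχ, fun x hx => hχe x hx⟩
  obtain ⟨φ, hφ, -, hφe⟩ := exists_hom_of_aut le_rfl hα
  obtain ⟨φ', hφ', hind⟩ := hmor.2 _ φ hφ
  obtain ⟨φ'', hφ'', hφ''e⟩ := exists_restrict hφ' (P := θV.range) fun y hy => by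
    obtain ⟨v, rfl⟩ := hy
    exact ⟨Subgroup.inclusion hVS v, Subgroup.mem_subgroupOf.2 v.2, rfl⟩
  have hEbφ : φ'' ∈ Eb.Hom θV.range := hR.1 |> fun _ => hR.2.1.1 _ (hom _ ▸ hφ'')
  obtain ⟨-, e, he, hinde⟩ := (hEb.2.2.2 _ _).1 hEbφ
  have hpre : V ≤ preimageAlong θV θV.range := fun v hv => mem_preimageAlong.2 ⟨hv, ⟨⟨v, hv⟩, rfl⟩⟩
  obtain ⟨e', he', he'e⟩ := exists_restrict he hpre
  obtain ⟨b, hb, hbe⟩ := Inter.exists_aut he' (apply_mem he')
  have hbF : b ∈ F.autGroup V := Inter.autE_le_autF hsub le_rfl hb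
  set γ : MulAut V := b⁻¹ * α with hγ
  have hγF : γ ∈ F.autGroup V := mul_mem (inv_mem hbF) hα
  obtain ⟨g, hg, -, hge⟩ := exists_hom_of_aut le_rfl hγF
  have hbz : ∀ x : V, (x : Ω)⁻¹ * (γ x : V) ∈ F.center := by
    intro x
    have hx : θV x ∈ θV.range := ⟨x, rfl⟩
    have h1 : θ (Subgroup.inclusion hVS (α x)) = θ (Subgroup.inclusion hVS (b x)) := by
      have e1 := inducedAlong_apply hind x x.2 ⟨x, x.2, rfl⟩ (apply_mem hφ _)
      have e2 := inducedAlong_apply hinde ⟨x, hpre x.2⟩ x.2 hx (apply_mem he _)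
      rw [show (Subgroup.inclusion hVS (α x)) = ⟨φ x, apply_mem hφ _⟩ from Subtype.ext (hφe x).symm,
        show (Subgroup.inclusion hVS (b x)) = Subgroup.inclusion hVS ⟨e ⟨x, hpre x.2⟩, apply_mem he _⟩ from
        Subtype.ext ((hbe x).trans (he'e x))]
      exact e1.symm.trans ((hφ''e ⟨θV x, hx⟩).symm.trans e2)
    have hc : ((b x : V) : Ω)⁻¹ * (α x : V) ∈ F.center :=
      (hker ((Subgroup.inclusion hVS (b x))⁻¹ * Subgroup.inclusion hVS (α x))).1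
        (by rw [map_mul, map_inv, h1, inv_mul_cancel])
    have hγx : γ x = b⁻¹ (α x) := rfl
    have hbinv : b⁻¹ ((b x)⁻¹ * α x) = x⁻¹ * γ x := by
      rw [map_mul, map_inv, MulAut.inv_apply_self, hγx]
    obtain ⟨g', hg', -, hg'e⟩ := exists_hom_of_aut le_rfl (inv_mem hbF)
    have h3 := center_fix hS hF hg' ((b x)⁻¹ * α x) hc
    rw [hg'e, hbinv] at h3
    have h4 : (x : Ω)⁻¹ * (γ x : V) = ((b x : V) : Ω)⁻¹ * (α x : V) := h3
    rw [h4]; exact hc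
  obtain ⟨k, hk⟩ := pow_eq_one_of_offset hS hbz fun x hx => Subtype.ext ((hge x).symm.trans (center_fix hS hF hg x hx))
  have hγE : γ ∈ E.autGroup V := autInducedBy_le_autGroup E le_rfl (inn_of_pElement hS hF hγF hk)
  rw [show α = b * γ by rw [hγ, mul_inv_cancel_left]]
  exact mul_mem hb hγE

/-- The centre of a quasisimple system is a proper subgroup of its base. -/
theorem not_le_center (hS : IsPGroup p S) (hq : F.Quasisimple p) : ¬ S ≤ F.center := by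
  intro h
  have hsc := FusionEssential.Transport.stronglyClosed_center hS hq.1
  obtain ⟨E, hE⟩ := exists_factorSystem (S' := ⊤) hsc (QuotientGroup.mk' (F.center.subgroupOf S))
    (fun s => (QuotientGroup.eq_one_iff s).trans Subgroup.mem_subgroupOf)
    (MonoidHom.range_eq_top.2 (QuotientGroup.mk'_surjective _))
  refine (hq.2.2 E hE).2.1 (eq_bot_iff.2 fun x _ => Subgroup.mem_bot.2 ?_)
  obtain ⟨s, rfl⟩ := QuotientGroup.mk'_surjective _ x
  exact (QuotientGroup.eq_one_iff s).2 (h s.2)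

/-- The maps of a subnormal subsystem are maps of the system. -/
theorem subnormal_isSubsystemOf {q : ℕ} {T U : Subgroup Ω} {C : FusionSystem T} {D : FusionSystem U}
    (h : C.IsSubnormalIn D q) : C.IsSubsystemOf D := by
  induction h with
  | refl D q => exact fun P φ hφ => hφ
  | step _ hD ih => exact fun P φ hφ => hD.1.2.2.1 P (ih P hφ)

/-- A component lies subnormally in every normal subsystem containing its base. -/
theorem component_in_normal {q : ℕ} [Fact q.Prime] {T U : Subgroup Ω} {C : FusionSystem T}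
    {D : FusionSystem U} (hC : C.IsSubnormalIn D q) :
    Finite U → IsPGroup q U → C.Quasisimple q → ∀ {V : Subgroup Ω} (E : FusionSystem V),
      E.IsNormalIn D q → T ≤ V → C.IsSubnormalIn E q := by
  rename_i hpf
  revert hpf
  induction hC with
  | refl D q =>
    intro _ hfin hU hq V E hE hTV
    rcases weaklyNormal_quasisimple hU hq hE.1 with h | ⟨rfl, h⟩
    · exact absurd (hTV.trans h) (not_le_center hU hq)
    · rw [fusion_ext (fun P φ => iff_of_eq (congrArg (φ ∈ ·) (h P)))]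
      exact .refl _ _
  | @step W U C D' D q hsub hD ih =>
    intro _ hfin hU hq V E hE hTV
    obtain ⟨I, ⟨-, hIE, hID⟩, -⟩ := Inter.exists_inter hU hE hD
    haveI := finite_sub (S := U) hD.1.2.2.2.1.1
    exact .step (ih inferInstance (isPGroup_of_le hU hD.1.2.2.2.1.1) hq I hID
      (le_inf hTV (src_le (subnormal_isSubsystemOf hsub _ (subtype_mem C le_rfl))))) hIE

end Cfsg.Agent.Lib.FS.CentralProd54
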